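import Groth.Agent.Fib62.InjCokerMain
import Mathlib.RingTheory.Regular.RegularSequence
import Mathlib.RingTheory.Nakayama

/-! A sequence regular on the fibre of a flat module is regular with flat quotients. -/

set_option autoImplicit false
universe u

open TensorProduct RingTheory.Sequence Pointwise

namespace Groth.Agent.Fib62

attribute [local instance] Algebra.TensorProduct.rightAlgebra

variable {A C : Type u} [CommRing A] [CommRing C] [Algebra A C]

theorem isSMulRegular_lTensor_iff (T M : Type u) [AddCommGroup T] [Module C T] [AddCommGroup M] [Module C M] (g : C) :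
    Function.Injective ((LinearMap.lsmul C M g).lTensor T) ↔ IsSMulRegular (T ⊗[C] M) g := by
  have : (LinearMap.lsmul C M g).lTensor T = LinearMap.lsmul C (T ⊗[C] M) g := by
    apply TensorProduct.ext'
    intro t m
    simp [tmul_smul]
  rw [this]
  rfl

/-- Induction step of the criterion. -/
theorem weaklyRegular_and_flat [Algebra.FinitePresentation A C] (P : PrimeSpectrum C) (gs : List C) :
    ∀ (M : Type u) [AddCommGroup M] [Module C M] [Module A M] [IsScalarTower A C M] [Module.FinitePresentation C M],
      Module.Flat A (Localization.AtPrime P.asIdeal ⊗[C] M) → IsWeaklyRegular (FibreLocal A P ⊗[C] M) gs →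
      IsWeaklyRegular (Localization.AtPrime P.asIdeal ⊗[C] M) gs ∧ ∀ i ≤ gs.length,
        Module.Flat A (Localization.AtPrime P.asIdeal ⊗[C] (M ⧸ (Ideal.ofList (gs.take i) • (⊤ : Submodule C M)))) := by
  let Cp := Localization.AtPrime P.asIdeal
  induction gs with
  | nil =>
    intro M _ _ _ _ _ hM _
    refine ⟨IsWeaklyRegular.nil C _, fun i _ => ?_⟩
    have h0 : (Ideal.ofList (([] : List C).take i) • (⊤ : Submodule C M)) = ⊥ := by simp
    exact Module.Flat.of_linearEquiv ((AlgebraTensorModule.congr (LinearEquiv.refl Cp Cp)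
      (Submodule.quotEquivOfEqBot _ h0)).restrictScalars A)
  | cons g gs ih =>
    intro M _ _ _ _ _ hM hreg
    rw [isWeaklyRegular_cons_iff] at hreg
    let u := LinearMap.lsmul C M g
    have hr : LinearMap.range u = g • (⊤ : Submodule C M) := by
      ext m
      simp [u, Submodule.mem_smul_pointwise_iff_exists]
    have : Module.FinitePresentation C (QuotSMulTop g M) :=
      Module.finitePresentation_of_surjective (Submodule.mkQ _) (Submodule.mkQ_surjective _) (by
        rw [Submodule.ker_mkQ, ← hr, LinearMap.range_eq_map]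
        exact Module.Finite.fg_top.map u)
    have hi : InjFib A u P := (isSMulRegular_lTensor_iff _ M g).mpr hreg.1
    obtain ⟨h1, h2⟩ := injAt_and_flat_coker_of_injFib u P hM hi
    have hQ : Module.Flat A (Cp ⊗[C] QuotSMulTop g M) := Module.Flat.of_linearEquiv
      ((AlgebraTensorModule.congr (LinearEquiv.refl Cp Cp) (Submodule.quotEquivOfEq _ _ hr)).restrictScalars A).symm
    have hreg' : IsWeaklyRegular (FibreLocal A P ⊗[C] QuotSMulTop g M) gs :=
      (LinearEquiv.isWeaklyRegular_congr (R := C) (M := FibreLocal A P ⊗[C] QuotSMulTop g M)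
        (M₂ := QuotSMulTop g (FibreLocal A P ⊗[C] M))
        (QuotSMulTop.tensorQuotSMulTopEquivQuotSMulTop g (FibreLocal A P) M) gs).mpr hreg.2
    obtain ⟨h3, h4⟩ := ih (QuotSMulTop g M) hQ hreg'
    refine ⟨(isWeaklyRegular_cons_iff _ g gs).mpr ⟨(isSMulRegular_lTensor_iff Cp M g).mp ((injAt_iff u P).mp h1), ?_⟩, ?_⟩
    · exact (LinearEquiv.isWeaklyRegular_congr (R := C) (M := Cp ⊗[C] QuotSMulTop g M)
        (M₂ := QuotSMulTop g (Cp ⊗[C] M)) (QuotSMulTop.tensorQuotSMulTopEquivQuotSMulTop g Cp M) gs).mp h3
    · intro i hi'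
      cases i with
      | zero =>
        have h0 : (Ideal.ofList ((g :: gs).take 0) • (⊤ : Submodule C M)) = ⊥ := by simp
        exact Module.Flat.of_linearEquiv ((AlgebraTensorModule.congr (LinearEquiv.refl Cp Cp)
          (Submodule.quotEquivOfEqBot _ h0)).restrictScalars A)
      | succ i =>
        have := h4 i (by simpa using hi')
        exact Module.Flat.of_linearEquiv ((AlgebraTensorModule.congr (LinearEquiv.refl Cp Cp)
          (Submodule.quotOfListConsSMulTopEquivQuotSMulTopInner M g (gs.take i))).restrictScalars A)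

variable (M : Type u) [AddCommGroup M] [Module C M] [Module A M] [IsScalarTower A C M]

/-- The fibre module as a tensor product with the residue field. -/
theorem nonempty_fibreLocal_tensor_equiv (P : PrimeSpectrum C) :
    Nonempty ((FibreLocal A P ⊗[C] M) ≃ₗ[C]
      LocalizedModule P.asIdeal.primeCompl (M ⊗[A] (P.asIdeal.under A).ResidueField)) := by
  let p := P.asIdeal.under A
  let κ := p.ResidueField
  let S := p.Fiber C
  let Cp := Localization.AtPrime P.asIdeal
  have : IsLocalization (fibrePoint (A := A) P).asIdeal.primeCompl (S ⊗[C] Cp) := isLocalization_fibre_tensor P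
  let e0 := IsLocalization.algEquiv (fibrePoint (A := A) P).asIdeal.primeCompl (FibreLocal A P) (S ⊗[C] Cp)
  let eS : S ≃ₗ[C] C ⊗[A] κ :=
    { TensorProduct.comm A κ C with
      map_smul' := fun c x => by
        induction x using TensorProduct.induction_on with
        | zero => simp
        | add a b ha hb => simp only [smul_add, map_add, AddHom.toFun_eq_coe, LinearMap.coe_toAddHom] at ha hb ⊢; rw [ha, hb]
        | tmul k d =>
          rw [Algebra.smul_def, Algebra.TensorProduct.right_algebraMap_apply, Algebra.TensorProduct.tmul_mul_tmul, one_mul]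
          simp [TensorProduct.smul_tmul', Algebra.smul_def] }
  let N := Cp ⊗[C] M
  exact ⟨AlgebraTensorModule.congr (e0.toLinearEquiv.restrictScalars C) (LinearEquiv.refl C M) ≪≫ₗ
    TensorProduct.assoc C S Cp M ≪≫ₗ
    AlgebraTensorModule.congr eS (LinearEquiv.refl C N) ≪≫ₗ
    TensorProduct.comm C (C ⊗[A] κ) N ≪≫ₗ
    AlgebraTensorModule.cancelBaseChange A C C N κ ≪≫ₗ
    AlgebraTensorModule.assoc A C C Cp M κ ≪≫ₗ
    ((LocalizedModule.equivTensorProduct P.asIdeal.primeCompl (M ⊗[A] κ)).restrictScalars C).symm⟩

theorem isRegular_and_flat_quotients [Algebra.FinitePresentation A C] [Module.FinitePresentation C M]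
    (q : Ideal C) [q.IsPrime] (g : List C) (hg : ∀ b ∈ g, b ∈ q)
    (hflat : Module.Flat A (LocalizedModule q.primeCompl M))
    (hreg : IsRegular (LocalizedModule q.primeCompl (M ⊗[A] (q.comap (algebraMap A C)).ResidueField)) g) :
    IsRegular (LocalizedModule q.primeCompl M) g ∧
      ∀ i ≤ g.length, Module.Flat A
        (LocalizedModule q.primeCompl (M ⧸ (Ideal.span {b | b ∈ g.take i} • (⊤ : Submodule C M)))) := by
  let P : PrimeSpectrum C := ⟨q, inferInstance⟩
  let Cp := Localization.AtPrime q
  obtain ⟨eF⟩ := nonempty_fibreLocal_tensor_equiv M P (A := A)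
  have hM : Module.Flat A (Cp ⊗[C] M) :=
    Module.Flat.of_linearEquiv ((LocalizedModule.equivTensorProduct q.primeCompl M).symm.restrictScalars A)
  obtain ⟨h1, h2⟩ := weaklyRegular_and_flat P g M hM
    ((LinearEquiv.isWeaklyRegular_congr eF g).mpr hreg.toIsWeaklyRegular)
  refine ⟨⟨(LinearEquiv.isWeaklyRegular_congr
    ((LocalizedModule.equivTensorProduct q.primeCompl M).restrictScalars C) g).mpr h1, ?_⟩, fun i hi => ?_⟩
  · intro htop
    have : Subsingleton (LocalizedModule q.primeCompl M) := by
      have hle : (⊤ : Submodule Cp (LocalizedModule q.primeCompl M)) ≤ IsLocalRing.maximalIdeal Cp • ⊤ := by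
        intro z _
        have h3 : z ∈ q • (⊤ : Submodule C (LocalizedModule q.primeCompl M)) :=
          Submodule.smul_mono_left (Ideal.span_le.mpr fun b hb => hg b hb) (htop.le Submodule.mem_top)
        rw [← mem_map_smul_iff (S := Cp), Localization.AtPrime.map_eq_maximalIdeal] at h3
        exact h3
      have hbot := Submodule.eq_bot_of_le_smul_of_le_jacobson_bot (IsLocalRing.maximalIdeal Cp)
        (⊤ : Submodule Cp (LocalizedModule q.primeCompl M)) Module.Finite.fg_top hle
        (IsLocalRing.maximalIdeal_le_jacobson ⊥)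
      exact subsingleton_of_forall_eq 0 fun z => (Submodule.mem_bot Cp).mp (hbot ▸ Submodule.mem_top)
    have hsub : Subsingleton (FibreLocal A P ⊗[C] M) := by
      obtain ⟨τ, hτ, -⟩ := exists_surjective_fibreLocal (A := A) P
      have : Subsingleton (Cp ⊗[C] M) :=
        (LocalizedModule.equivTensorProduct q.primeCompl M).symm.toEquiv.subsingleton
      exact (LinearMap.rTensor_surjective M (g := τ.toLinearMap) hτ).subsingleton
    have := eF.symm.toEquiv.subsingleton
    exact hreg.top_ne_smul (Subsingleton.elim _ _)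
  · have := h2 i hi
    exact Module.Flat.of_linearEquiv ((LocalizedModule.equivTensorProduct q.primeCompl _).restrictScalars A)

end Groth.Agent.Fib62
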