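import Groth.Agent.Cons62.FlatFibre
import Mathlib.RingTheory.Flat.FaithfullyFlat.Algebra
import Mathlib.RingTheory.Localization.AtPrime.Basic
import Mathlib.RingTheory.IsTensorProduct

/-! Flatness of localized modules is invariant under flat extension of the ring. -/

set_option autoImplicit false
universe u

open TensorProduct

namespace Groth.Agent.Fib62

/-- Flatness descends along a faithfully flat extension of an auxiliary ring. -/
theorem flat_of_faithfullyFlat_tensor {B T T' W : Type u} [CommRing B] [CommRing T] [CommRing T']
    [Algebra B T] [Algebra B T'] [Algebra T T'] [IsScalarTower B T T'] [Module.FaithfullyFlat T T']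
    [AddCommGroup W] [Module T W] [Module B W] [IsScalarTower B T W]
    (h : Module.Flat B (T' ⊗[T] W)) : Module.Flat B W := by
  rw [Module.Flat.iff_lTensor_preserves_injective_linearMap] at h ⊢
  intro P Q _ _ _ _ v hv
  let w : W ⊗[B] P →ₗ[T] W ⊗[B] Q := AlgebraTensorModule.lTensor T W v
  show Function.Injective w
  refine (Module.FaithfullyFlat.lTensor_injective_iff_injective T T' w).mp ?_
  let eP := AlgebraTensorModule.assoc B T T T' W P
  let eQ := AlgebraTensorModule.assoc B T T T' W Q
  have key : ∀ t, w.lTensor T' (eP t) = eQ (v.lTensor (T' ⊗[T] W) t) := by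
    intro t
    induction t using TensorProduct.induction_on with
    | zero => simp
    | add x y hx hy => simp only [map_add, hx, hy]
    | tmul x p =>
      induction x using TensorProduct.induction_on with
      | zero => simp
      | add a b ha hb => simp only [add_tmul, map_add, ha, hb]
      | tmul a b => simp [eP, eQ, w]
  intro x y hxy
  obtain ⟨x, rfl⟩ := eP.surjective x
  obtain ⟨y, rfl⟩ := eP.surjective y
  rw [key, key] at hxy
  rw [h v hv (eQ.injective hxy)]

theorem flat_tensor {B C L W : Type u} [CommRing B] [CommRing C] [Algebra B C]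
    [AddCommGroup L] [Module C L] [Module B L] [IsScalarTower B C L] [Module.Flat C L]
    [AddCommGroup W] [Module C W] [Module B W] [IsScalarTower B C W] [Module.Flat B W] :
    Module.Flat B (L ⊗[C] W) :=
  have : Module.Flat B (B ⊗[B] (L ⊗[C] W)) := Cons62.flat_baseChange_tensor
  Module.Flat.of_linearEquiv (TensorProduct.lid B (L ⊗[C] W)).symm

variable {D D' S S' : Type u} [CommRing D] [CommRing D'] [CommRing S] [CommRing S']
  [Algebra D D'] [Algebra D S] [Algebra D' S'] [Algebra S S'] [Algebra D S']
  [IsScalarTower D D' S'] [IsScalarTower D S S'] [Algebra.IsPushout D D' S S']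

/-- Flatness of a localized module is invariant under flat base change. -/
theorem flat_localized_baseChange_iff [Module.Flat D D'] (N : Type u) [AddCommGroup N] [Module S N]
    [Module D N] [IsScalarTower D S N] (Q : Ideal S) [Q.IsPrime] (Q' : Ideal S') [Q'.IsPrime]
    [Q'.LiesOver Q] :
    Module.Flat D (LocalizedModule Q.primeCompl N) ↔
      Module.Flat D' (LocalizedModule Q'.primeCompl (S' ⊗[S] N)) := by
  let T := Localization.AtPrime Q
  let T' := Localization.AtPrime Q'
  letI : Algebra T T' := Localization.AtPrime.algebraOfLiesOver Q Q'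
  have : IsLocalHom (algebraMap T T') :=
    Localization.isLocalHom_localRingHom Q Q' (algebraMap S S') Ideal.LiesOver.over
  have : IsScalarTower D T T' := .of_algebraMap_eq fun a => by
    rw [IsScalarTower.algebraMap_apply D S T, ← IsScalarTower.algebraMap_apply S T T',
      ← IsScalarTower.algebraMap_apply]
  have : Algebra.IsPushout D S D' S' := Algebra.IsPushout.symm inferInstance
  have : Module.Flat S S' :=
    Module.Flat.of_linearEquiv (Algebra.IsPushout.out (R := D) (S := S) (R' := D') (S' := S')).equiv.symm
  have : Module.Flat S T' := Module.Flat.trans S S' T'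
  have : Module.Flat T T' := (Module.flat_iff_of_isLocalization T Q.primeCompl T').mpr inferInstance
  have : Module.FaithfullyFlat T T' := Module.FaithfullyFlat.of_flat_of_isLocalHom
  let W := T ⊗[S] N
  have hW : Module.Flat D (LocalizedModule Q.primeCompl N) ↔ Module.Flat D W :=
    Module.Flat.equiv_iff ((LocalizedModule.equivTensorProduct Q.primeCompl N).restrictScalars D)
  have hW' : Module.Flat D' (LocalizedModule Q'.primeCompl (S' ⊗[S] N)) ↔ Module.Flat D' (T' ⊗[S] N) :=
    Module.Flat.equiv_iff (((LocalizedModule.equivTensorProduct Q'.primeCompl (S' ⊗[S] N)) ≪≫ₗ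
      AlgebraTensorModule.cancelBaseChange S S' T' T' N).restrictScalars D')
  rw [hW, hW']
  have := isLocalizedModule_id Q.primeCompl W T
  let eW : T ⊗[S] W ≃ₗ[T] W :=
    (IsLocalizedModule.isBaseChange Q.primeCompl T (LinearMap.id : W →ₗ[S] W)).equiv
  constructor
  · intro h
    have : Module.Flat D' (S' ⊗[S] W) :=
      Module.Flat.of_linearEquiv (Algebra.IsPushout.cancelBaseChange D D' S S' W)
    have : Module.Flat D' (T' ⊗[S'] (S' ⊗[S] W)) := flat_tensor
    exact Module.Flat.of_linearEquiv
      (((AlgebraTensorModule.cancelBaseChange S S' T' T' W) ≪≫ₗ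
        (AlgebraTensorModule.cancelBaseChange S T T' T' W).symm ≪≫ₗ
        AlgebraTensorModule.congr (LinearEquiv.refl T' T') eW ≪≫ₗ
        AlgebraTensorModule.cancelBaseChange S T T' T' N).symm.restrictScalars D')
  · intro h
    have : Module.Flat D (T' ⊗[S] N) := Module.Flat.trans D D' (T' ⊗[S] N)
    exact flat_of_faithfullyFlat_tensor (T := T) (T' := T') (Module.Flat.of_linearEquiv
      ((AlgebraTensorModule.cancelBaseChange S T T' T' N).restrictScalars D))

end Groth.Agent.Fib62
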