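import Groth.Agent.Fib62.Constructible
import Groth.Agent.Stage62.ModuleModel
import Mathlib.AlgebraicGeometry.Morphisms.FinitePresentation

/-! The locus of flatness on fibres is constructible over any base. -/

set_option autoImplicit false
universe u

open TensorProduct Topology AlgebraicGeometry CategoryTheory

namespace Groth.Agent.Fib62

attribute [local instance] Algebra.TensorProduct.rightAlgebra in
theorem isPushout_of_equiv {R₀ R S₀ S : Type u} [CommRing R₀] [CommRing R] [CommRing S₀] [CommRing S]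
    [Algebra R₀ R] [Algebra R₀ S₀] [Algebra R S] [Algebra R₀ S] [Algebra S₀ S] [IsScalarTower R₀ R S]
    [IsScalarTower R₀ S₀ S] (e : R ⊗[R₀] S₀ ≃ₐ[R] S) (he : ∀ x, algebraMap S₀ S x = e (1 ⊗ₜ x)) :
    Algebra.IsPushout R₀ R S₀ S := by
  exact Algebra.IsPushout.of_equiv e (RingHom.ext fun x => (he x).symm)

attribute [local instance] Algebra.TensorProduct.rightAlgebra in
theorem goodAt_congr {A B C : Type u} [CommRing A] [CommRing B] [CommRing C] [Algebra A B] [Algebra B C]
    [Algebra A C] [IsScalarTower A B C] {M M' : Type u} [AddCommGroup M] [Module C M] [AddCommGroup M']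
    [Module C M'] (e : M ≃ₗ[C] M') (P : PrimeSpectrum C) : GoodAt A B M P ↔ GoodAt A B M' P := by
  letI := fibreAlgebra (B := B) (C := C) (P.asIdeal.under A)
  unfold GoodAt
  exact flat_localized_congr (AlgebraTensorModule.congr (LinearEquiv.refl _ _) e) _

theorem isConstructible_goodAt_of_finitePresentation {A B C : Type u} [CommRing A] [CommRing B] [CommRing C]
    [Algebra A B] [Algebra B C] [Algebra A C] [IsScalarTower A B C] [Algebra.FinitePresentation A B]
    [Algebra.FinitePresentation B C] (M : Type u) [AddCommGroup M] [Module C M] [Module.FinitePresentation C M] :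
    IsConstructible {P : PrimeSpectrum C | GoodAt A B M P} := by
  classical
  obtain ⟨m, π, hπ⟩ := Module.Finite.exists_fin' C M
  obtain ⟨w, hw⟩ := (Module.FinitePresentation.fg_ker π hπ : (LinearMap.ker π).FG)
  let Q := Algebra.Presentation.ofFinitePresentation B C
  choose g hg using fun c : C => Q.toGenerators.algebraMap_surjective c
  let t : Set B := Q.coeffs ∪ ⋃ v ∈ (w : Set (Fin m → C)), ⋃ i, ((g (v i)).coeffs : Set B)
  have ht : t.Finite := Q.finite_coeffs.union
    (w.finite_toSet.biUnion fun v _ => Set.finite_iUnion fun i => Finset.finite_toSet _)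
  obtain ⟨A₀, B₀, _, _, e, hN, hB₀, hsub⟩ := Cons62.exists_model (A := A) (B := B) ht
  let β : B₀ →+* B := e.toRingHom.comp Algebra.TensorProduct.includeRight.toRingHom
  letI : Algebra B₀ B := β.toAlgebra
  letI : Algebra B₀ C := ((algebraMap B C).comp β).toAlgebra
  have : IsScalarTower B₀ B C := .of_algebraMap_eq' rfl
  have : Q.HasCoeffs B₀ := ⟨fun x hx => hsub (Or.inl hx)⟩
  let C₀ := Q.ModelOfHasCoeffs B₀
  let eC := Q.tensorModelOfHasCoeffsEquiv B₀
  let γ : C₀ →+* C := eC.toRingHom.comp Algebra.TensorProduct.includeRight.toRingHom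
  letI : Algebra C₀ C := γ.toAlgebra
  have hBC : IsScalarTower B₀ C₀ C := IsScalarTower.of_algebraMap_eq (R := B₀) (S := C₀) (A := C) fun b => by
    show algebraMap B C (β b) = eC (1 ⊗ₜ algebraMap B₀ C₀ b)
    rw [show (1 : B) ⊗ₜ[B₀] algebraMap B₀ C₀ b = algebraMap B (B ⊗[B₀] C₀) (β b) by
      rw [Algebra.TensorProduct.algebraMap_apply, Algebra.algebraMap_self_apply, Algebra.algebraMap_eq_smul_one,
        ← smul_tmul, Algebra.smul_def, mul_one]
      rfl, AlgEquiv.commutes]
  have : IsScalarTower A₀ B₀ B := IsScalarTower.of_algebraMap_eq (R := A₀) (S := B₀) (A := B) fun a => by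
    show _ = e (1 ⊗ₜ algebraMap A₀ B₀ a)
    rw [show (1 : A) ⊗ₜ[A₀] algebraMap A₀ B₀ a = algebraMap A (A ⊗[A₀] B₀) (algebraMap A₀ A a) by
      rw [Algebra.TensorProduct.algebraMap_apply, Algebra.algebraMap_self_apply, Algebra.algebraMap_eq_smul_one,
        ← smul_tmul, Algebra.smul_def, mul_one], AlgEquiv.commutes, ← IsScalarTower.algebraMap_apply]
  have : IsScalarTower A₀ C₀ C := IsScalarTower.of_algebraMap_eq (R := A₀) (S := C₀) (A := C) fun a => by
    rw [IsScalarTower.algebraMap_apply A₀ B C, IsScalarTower.algebraMap_apply A₀ B₀ B,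
      ← IsScalarTower.algebraMap_apply B₀ B C, IsScalarTower.algebraMap_apply B₀ C₀ C,
      ← IsScalarTower.algebraMap_apply A₀ B₀ C₀]
  have hB : Algebra.IsPushout A₀ A B₀ B := isPushout_of_equiv e fun _ => rfl
  have h2 : Algebra.IsPushout B₀ B C₀ C := isPushout_of_equiv eC fun _ => rfl
  have : Algebra.IsPushout A₀ B₀ A B := hB.symm
  have : Algebra.IsPushout B₀ C₀ B C := h2.symm
  have hC : Algebra.IsPushout A₀ A C₀ C :=
    ((Algebra.IsPushout.comp_iff A₀ B₀ A (S' := B) (T := C₀) (T' := C)).mpr inferInstance).symm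
  choose l hl using fun (v : ↥(w : Set (Fin m → C))) (i : Fin m) => show v.1 i ∈ Set.range γ by
    obtain ⟨y, hy⟩ : g (v.1 i) ∈ Set.range (MvPolynomial.map (algebraMap B₀ B)) := by
      rw [MvPolynomial.mem_range_map_iff_coeffs_subset]
      exact fun x hx => hsub (Or.inr (Set.mem_biUnion v.2 (Set.mem_iUnion.mpr ⟨i, hx⟩)))
    refine ⟨Ideal.Quotient.mk _ y, ?_⟩
    show Q.tensorModelOfHasCoeffsEquiv B₀ (1 ⊗ₜ Ideal.Quotient.mk _ y) = v.1 i
    rw [Q.tensorModelOfHasCoeffsEquiv_tmul, map_one, one_mul, ← MvPolynomial.aeval_map_algebraMap B, hy,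
      ← Q.algebraMap_apply]
    exact hg (v.1 i)
  let e0 : C ⊗[C₀] C₀ ≃ₐ[C] C := Algebra.TensorProduct.rid C₀ C C
  have hco : ∀ v, Stage62.coord e0 (l v) = v.1 := fun v => funext fun i => by
    show Algebra.TensorProduct.rid C₀ C C ((1 : C) ⊗ₜ l v i) = _
    rw [Algebra.TensorProduct.rid_tmul, Algebra.smul_def, mul_one]
    exact hl v i
  have hspan : Submodule.span C (Set.range fun v => Stage62.coord e0 (l v)) = LinearMap.ker π := by
    rw [← hw]
    congr 1
    rw [funext hco, Subtype.range_coe]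
  let eM := Stage62.quotEquiv e0 l ≪≫ₗ (Submodule.quotEquivOfEq _ _ hspan).restrictScalars C ≪≫ₗ
    (π.quotKerEquivOfSurjective hπ).restrictScalars C
  let M₀ := (Fin m → C₀) ⧸ Submodule.span C₀ (Set.range l)
  have : Algebra.FiniteType A₀ B₀ := inferInstance
  have : Algebra.FiniteType B₀ C₀ := inferInstance
  have : Algebra.FiniteType A₀ C₀ := Algebra.FiniteType.trans (S := B₀) inferInstance inferInstance
  have h0 := isConstructible_goodAt (A := A₀) (B := B₀) (C := C₀) M₀
  have hpre := (Spec.map (CommRingCat.ofHom (algebraMap C₀ C))).isConstructible_preimage h0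
  have hset : {P : PrimeSpectrum C | GoodAt A B M P} =
      PrimeSpectrum.comap (algebraMap C₀ C) ⁻¹' {P : PrimeSpectrum C₀ | GoodAt A₀ B₀ M₀ P} := by
    ext P
    show GoodAt A B M P ↔ GoodAt A₀ B₀ M₀ (PrimeSpectrum.comap (algebraMap C₀ C) P)
    rw [← goodAt_baseChange (A' := A) (B' := B) M₀ P]
    exact goodAt_congr eM.symm P
  rw [hset]
  exact hpre

end Groth.Agent.Fib62
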