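import Groth.Agent.Fib62.InjCoker

/-! The criterion for injectivity with flat cokernel over an arbitrary base, and openness. -/

set_option autoImplicit false
universe u

open TensorProduct

namespace Groth.Agent.Fib62

attribute [local instance] Algebra.TensorProduct.rightAlgebra

variable {A C : Type u} [CommRing A] [CommRing C] [Algebra A C] {N M : Type u} [AddCommGroup N]
  [Module C N] [AddCommGroup M] [Module C M] [Module A M] [IsScalarTower A C M]
  [Algebra.FinitePresentation A C] [Module.FinitePresentation C N] [Module.FinitePresentation C M]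

include A in
/-- A map of finitely presented modules with flat cokernel has finitely generated kernel. -/
theorem fg_ker_of_flat_coker (u : N →ₗ[C] M) (hflat : Module.Flat A (M ⧸ LinearMap.range u)) :
    (LinearMap.ker u).FG := by
  obtain ⟨D, C₁, _, _, _, _, _, _, _, _, hpo, N₁, M₁, _, _, _, _, _, _, _, _, u₁, eN, eM, hN, hft, _, _, hcomm, -, hQ⟩ :=
    exists_map_model (A := A) u
  have : IsNoetherianRing C₁ := Algebra.FiniteType.isNoetherianRing D C₁
  have hQ₁ := hQ hflat
  let φ : C ⊗[C₁] LinearMap.ker u₁ →ₗ[C] N := eN.toLinearMap ∘ₗ (LinearMap.ker u₁).subtype.baseChange C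
  have hker : LinearMap.ker u = LinearMap.range φ := by
    apply le_antisymm
    · intro x hx
      obtain ⟨z, rfl⟩ := eN.surjective x
      have hz : z ∈ LinearMap.ker (u₁.baseChange C) := eM.injective (by
        rw [hcomm, map_zero]; exact hx)
      obtain ⟨w, hw⟩ := ker_baseChange_le (D := D) (A := A) (C := C) u₁ hQ₁ hz
      exact ⟨w, by simp [φ, hw]⟩
    · rintro _ ⟨w, rfl⟩
      show u (eN _) = 0
      rw [← hcomm]
      have : (u₁.baseChange C) ((LinearMap.ker u₁).subtype.baseChange C w) = 0 := by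
        induction w using TensorProduct.induction_on with
        | zero => simp
        | add a b ha hb => simp only [map_add, ha, hb, add_zero]
        | tmul a b => simp [LinearMap.mem_ker.mp b.2]
      rw [this, map_zero]
  have : Module.Finite C (C ⊗[C₁] LinearMap.ker u₁) := inferInstance
  rw [hker, LinearMap.range_eq_map]
  exact Module.Finite.fg_top.map φ

/-- The criterion for a globally flat target. -/
theorem injAt_and_flat_coker_of_injFib_of_flat (u : N →ₗ[C] M) [hM : Module.Flat A M] (P : PrimeSpectrum C)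
    (h : InjFib A u P) :
    InjAt u P ∧ Module.Flat A (Localization.AtPrime P.asIdeal ⊗[C] (M ⧸ LinearMap.range u)) := by
  obtain ⟨D, C₁, _, _, _, _, _, _, _, _, hpo, N₁, M₁, _, _, _, _, _, _, _, _, u₁, eN, eM, hD, hft, _, _, hcomm, hflat, -⟩ :=
    exists_map_model (A := A) u
  have : IsNoetherianRing C₁ := Algebra.FiniteType.isNoetherianRing D C₁
  have := hflat hM
  let P₁ := PrimeSpectrum.comap (algebraMap C₁ C) P
  let R := Localization.AtPrime P₁.asIdeal
  let Cp := Localization.AtPrime P.asIdeal
  have h' : InjFib A (u₁.baseChange C) P := by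
    let L := FibreLocal A P
    have key : ∀ z, eM.toLinearMap.lTensor L ((u₁.baseChange C).lTensor L z) = u.lTensor L (eN.toLinearMap.lTensor L z) := by
      intro z
      rw [← LinearMap.lTensor_comp_apply, ← LinearMap.lTensor_comp_apply]
      congr 2
      exact LinearMap.ext hcomm
    intro x y hxy
    apply (eN.lTensor L).injective
    apply h
    show u.lTensor L (eN.toLinearMap.lTensor L x) = u.lTensor L (eN.toLinearMap.lTensor L y)
    rw [← key, ← key]
    exact congrArg _ hxy
  have h₁ : InjFib D u₁ P₁ := injFib_of_baseChange (A := D) (A' := A) u₁ P h'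
  have : Module.Flat D (R ⊗[C₁] M₁) := flat_tensor
  obtain ⟨hinj, hQ⟩ := injective_and_flat_coker_noetherian u₁ P₁ h₁
  constructor
  · intro x hx
    obtain ⟨z, rfl⟩ := eN.surjective x
    have hz : u₁.baseChange C z = 0 := eM.injective (by rw [hcomm, map_zero, hx])
    let v := (u₁.baseChange R).restrictScalars C₁
    have hv : Function.Injective (v.lTensor C) := by
      refine injective_lTensor_of_pushout (D := D) (A := A) v hinj ?_
      have : Module.Flat D ((R ⊗[C₁] M₁) ⧸ LinearMap.range (u₁.baseChange R)) :=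
        Module.Flat.of_linearEquiv ((cokerBaseChange u₁ R).restrictScalars D)
      rw [LinearMap.range_restrictScalars]
      exact Module.Flat.of_linearEquiv
        ((Submodule.Quotient.restrictScalarsEquiv C₁ (LinearMap.range (u₁.baseChange R))).restrictScalars D)
    let jN : C ⊗[C₁] N₁ →ₗ[C₁] C ⊗[C₁] (R ⊗[C₁] N₁) := (TensorProduct.mk C₁ R N₁ 1).lTensor C
    let jM : C ⊗[C₁] M₁ →ₗ[C₁] C ⊗[C₁] (R ⊗[C₁] M₁) := (TensorProduct.mk C₁ R M₁ 1).lTensor C
    have hcomp : ∀ z, v.lTensor C (jN z) = jM (u₁.baseChange C z) := by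
      intro z
      induction z using TensorProduct.induction_on with
      | zero => simp
      | add a b ha hb => simp only [map_add, ha, hb]
      | tmul a b => simp [jN, jM, v]
    have hjz : jN z = 0 := hv (by rw [hcomp, hz, map_zero, map_zero])
    have h0 : (1 : R) ⊗ₜ[C₁] z = 0 := by
      have hcm : ∀ z, TensorProduct.leftComm C₁ C R N₁ (jN z) = (1 : R) ⊗ₜ[C₁] z := by
        intro z
        induction z using TensorProduct.induction_on with
        | zero => simp
        | add a b ha hb => simp only [map_add, ha, hb, tmul_add]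
        | tmul a b => simp [jN]
      rw [← hcm, hjz, map_zero]
    obtain ⟨t, ht⟩ := (IsLocalizedModule.eq_zero_iff P₁.asIdeal.primeCompl
      (TensorProduct.mk C₁ R (C ⊗[C₁] N₁) 1)).mp h0
    refine ⟨algebraMap C₁ C t, t.2, ?_⟩
    rw [← map_smul, algebraMap_smul]
    rw [Submonoid.smul_def] at ht
    rw [ht, map_zero]
  · letI : Algebra R Cp := Localization.AtPrime.algebraOfLiesOver P₁.asIdeal P.asIdeal
    let Q₁ := M₁ ⧸ LinearMap.range u₁
    let W := R ⊗[C₁] Q₁
    have : Module.Flat D W := hQ
    have : Module.Flat A (C ⊗[C₁] W) :=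
      Module.Flat.of_linearEquiv (Algebra.IsPushout.cancelBaseChange D A C₁ C W)
    have hflat' : Module.Flat A (Cp ⊗[C] (C ⊗[C₁] W)) := flat_tensor
    let eQ : (C ⊗[C₁] Q₁) ≃ₗ[C] M ⧸ LinearMap.range u :=
      (cokerBaseChange u₁ C).symm ≪≫ₗ Submodule.Quotient.equiv _ _ eM (by
        ext y
        constructor
        · rintro ⟨_, ⟨z, rfl⟩, rfl⟩
          exact ⟨eN z, (hcomm z).symm⟩
        · rintro ⟨z, rfl⟩
          refine ⟨_, ⟨eN.symm z, rfl⟩, ?_⟩
          show eM (u₁.baseChange C (eN.symm z)) = u z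
          rw [hcomm, LinearEquiv.apply_symm_apply])
    have := isLocalizedModule_id P₁.asIdeal.primeCompl W R
    let eW : R ⊗[C₁] W ≃ₗ[R] W :=
      (IsLocalizedModule.isBaseChange P₁.asIdeal.primeCompl R (LinearMap.id : W →ₗ[C₁] W)).equiv
    exact Module.Flat.of_linearEquiv (((AlgebraTensorModule.cancelBaseChange C₁ C Cp Cp W) ≪≫ₗ
      (AlgebraTensorModule.cancelBaseChange C₁ R Cp Cp W).symm ≪≫ₗ
      AlgebraTensorModule.congr (LinearEquiv.refl Cp Cp) eW ≪≫ₗ
      AlgebraTensorModule.cancelBaseChange C₁ R Cp Cp Q₁ ≪≫ₗ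
      (AlgebraTensorModule.cancelBaseChange C₁ C Cp Cp Q₁).symm ≪≫ₗ
      AlgebraTensorModule.congr (LinearEquiv.refl Cp Cp) eQ).symm.restrictScalars A)

/-- Injectivity on the fibre into a module flat at `P` gives injectivity with flat cokernel at `P`. -/
theorem injAt_and_flat_coker_of_injFib (u : N →ₗ[C] M) (P : PrimeSpectrum C)
    (hM : Module.Flat A (Localization.AtPrime P.asIdeal ⊗[C] M)) (h : InjFib A u P) :
    InjAt u P ∧ Module.Flat A (Localization.AtPrime P.asIdeal ⊗[C] (M ⧸ LinearMap.range u)) := by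
  obtain ⟨f, hf, hflat⟩ := exists_flat_away (A := A) P hM
  let C' := Localization.Away f
  have : Algebra.FinitePresentation C C' := IsLocalization.Away.finitePresentation f
  have : Algebra.FinitePresentation A C' := Algebra.FinitePresentation.trans A C C'
  have hd : Disjoint (Submonoid.powers f : Set C) P.asIdeal := by
    rw [Set.disjoint_left]
    rintro _ ⟨n, rfl⟩ hn
    exact hf (P.2.mem_of_pow_mem n hn)
  let P' : PrimeSpectrum C' := ⟨P.asIdeal.map (algebraMap C C'),
    IsLocalization.isPrime_of_isPrime_disjoint (Submonoid.powers f) C' P.asIdeal P.2 hd⟩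
  have hP' : PrimeSpectrum.comap (algebraMap C C') P' = P :=
    PrimeSpectrum.ext (IsLocalization.under_map_of_isPrime_disjoint (Submonoid.powers f) C' P.2 hd)
  have h' : InjFib A (u.baseChange C') P' :=
    injFib_of_isLocalization (Submonoid.powers f) u P' (by rw [hP']; exact h)
  obtain ⟨h1, h2⟩ := injAt_and_flat_coker_of_injFib_of_flat (A := A) (u.baseChange C') (hM := hflat) P' h'
  constructor
  · intro x hx
    obtain ⟨s, hs, hsx⟩ := h1 ((1 : C') ⊗ₜ[C] x) (by rw [LinearMap.baseChange_tmul, hx, tmul_zero])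
    obtain ⟨c, d, rfl⟩ := IsLocalization.exists_mk'_eq (Submonoid.powers f) s
    have hc : c ∉ P.asIdeal := fun hc => hs (by
      rw [IsLocalization.mk'_eq_mul_mk'_one]
      exact Ideal.mul_mem_right _ _ (Ideal.mem_map_of_mem _ hc))
    have h0 : (1 : C') ⊗ₜ[C] (c • x) = 0 := by
      rw [tmul_smul, ← algebraMap_smul C' c, ← IsLocalization.mk'_spec C' c d, mul_comm, mul_smul, hsx, smul_zero]
    obtain ⟨t, ht⟩ := (IsLocalizedModule.eq_zero_iff (Submonoid.powers f) (TensorProduct.mk C C' N 1)).mp h0
    rw [Submonoid.smul_def, smul_smul] at ht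
    exact ⟨t * c, fun hm => (P.2.mem_or_mem hm).elim (Set.disjoint_left.mp hd t.2) hc, ht⟩
  · haveI : P'.asIdeal.IsPrime := P'.2
    let R := Localization.AtPrime P'.asIdeal
    have : Module.Flat A (R ⊗[C'] (C' ⊗[C] (M ⧸ LinearMap.range u))) :=
      Module.Flat.of_linearEquiv
        ((AlgebraTensorModule.congr (LinearEquiv.refl R R) (cokerBaseChange u C')).symm.restrictScalars A)
    have : IsLocalization P.asIdeal.primeCompl R := by
      have hR := IsLocalization.isLocalization_isLocalization_atPrime_isLocalization (Submonoid.powers f) R P'.asIdeal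
      have he : (P'.asIdeal.comap (algebraMap C C')) = P.asIdeal := congrArg PrimeSpectrum.asIdeal hP'
      simpa only [IsLocalization.AtPrime, he] using hR
    let e := IsLocalization.algEquiv P.asIdeal.primeCompl R (Localization.AtPrime P.asIdeal)
    exact Module.Flat.of_linearEquiv
      (((AlgebraTensorModule.cancelBaseChange C C' R R (M ⧸ LinearMap.range u)).restrictScalars C ≪≫ₗ
        AlgebraTensorModule.congr e.toLinearEquiv (LinearEquiv.refl C _)).restrictScalars A).symm

/-- The locus of injectivity with flat cokernel is open. -/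
theorem isOpen_injAt_flat_coker (u : N →ₗ[C] M) :
    IsOpen {P : PrimeSpectrum C | InjAt u P ∧
      Module.Flat A (Localization.AtPrime P.asIdeal ⊗[C] (M ⧸ LinearMap.range u))} := by
  rw [isOpen_iff_forall_mem_open]
  rintro P ⟨hinj, hflat⟩
  have : Module.FinitePresentation C (M ⧸ LinearMap.range u) :=
    Module.finitePresentation_of_surjective _ (Submodule.mkQ_surjective _) (by
      rw [Submodule.ker_mkQ, LinearMap.range_eq_map]; exact Module.Finite.fg_top.map u)
  obtain ⟨f, hf, hQ⟩ := exists_flat_away (A := A) P hflat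
  let C' := Localization.Away f
  have : Algebra.FinitePresentation C C' := IsLocalization.Away.finitePresentation f
  have : Algebra.FinitePresentation A C' := Algebra.FinitePresentation.trans A C C'
  obtain ⟨w, hw⟩ := fg_ker_of_flat_coker (A := A) (u.baseChange C')
    (Module.Flat.of_linearEquiv ((cokerBaseChange u C').restrictScalars A))
  have hgen : ∀ y : ↥(w : Set (C' ⊗[C] N)), ∃ t : C, t ∉ P.asIdeal ∧ algebraMap C C' t • y.1 = 0 := by
    rintro ⟨y, hy⟩
    have hy' : u.baseChange C' y = 0 := LinearMap.mem_ker.mp (hw ▸ Submodule.subset_span hy)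
    obtain ⟨⟨n, d⟩, hnd⟩ := IsLocalizedModule.surj (Submonoid.powers f) (TensorProduct.mk C C' N 1) y
    have hn : u.baseChange C' ((1 : C') ⊗ₜ[C] n) = 0 := by
      rw [show (1 : C') ⊗ₜ[C] n = (d : C) • y from hnd.symm, ← algebraMap_smul C' (d : C) y, map_smul, hy', smul_zero]
    rw [LinearMap.baseChange_tmul] at hn
    obtain ⟨t, ht⟩ := (IsLocalizedModule.eq_zero_iff (Submonoid.powers f) (TensorProduct.mk C C' M 1)).mp hn
    rw [Submonoid.smul_def] at ht
    obtain ⟨s, hs, hsn⟩ := hinj ((t : C) • n) (by rw [map_smul, ht])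
    have hfd : ∀ e : Submonoid.powers f, (e : C) ∉ P.asIdeal := by
      rintro ⟨_, k, rfl⟩ hk
      exact hf (P.2.mem_of_pow_mem k hk)
    refine ⟨s * t * d, fun hm => ?_, ?_⟩
    · rcases P.2.mem_or_mem hm with hm | hm
      · exact (P.2.mem_or_mem hm).elim hs (hfd t)
      · exact hfd d hm
    · rw [algebraMap_smul, mul_smul, show (d : C) • y = (1 : C') ⊗ₜ[C] n from hnd, mul_smul, ← tmul_smul, ← tmul_smul,
        hsn, tmul_zero]
  choose t htP ht using hgen
  let g := ∏ y, t y
  have hgP : f * g ∉ P.asIdeal := fun hm => (P.2.mem_or_mem hm).elim hf fun hg => by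
    obtain ⟨y, -, hy⟩ := Ideal.IsPrime.prod_mem_iff.mp hg
    exact htP y hy
  have hkill : ∀ z, u.baseChange C' z = 0 → algebraMap C C' g • z = 0 := by
    intro z hz
    replace hz : z ∈ Submodule.span C' (w : Set (C' ⊗[C] N)) := hw ▸ LinearMap.mem_ker.mpr hz
    induction hz using Submodule.span_induction with
    | mem z hz =>
      obtain ⟨c, hc⟩ : t ⟨z, hz⟩ ∣ g := Finset.dvd_prod_of_mem t (Finset.mem_univ _)
      rw [hc, mul_comm, map_mul, mul_smul, ht ⟨z, hz⟩, smul_zero]
    | zero => rw [smul_zero]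
    | add a b _ _ ha hb => rw [smul_add, ha, hb, add_zero]
    | smul c a _ ha => rw [smul_comm, ha, smul_zero]
  refine ⟨(PrimeSpectrum.basicOpen (f * g) : Set (PrimeSpectrum C)), ?_, (PrimeSpectrum.basicOpen _).2, hgP⟩
  intro P₂ hP₂
  have hf₂ : f ∉ P₂.asIdeal := fun h => hP₂ (Ideal.mul_mem_right _ _ h)
  refine ⟨fun x hx => ?_, ?_⟩
  · have h0 := hkill ((1 : C') ⊗ₜ[C] x) (by rw [LinearMap.baseChange_tmul, hx, tmul_zero])
    rw [algebraMap_smul, ← tmul_smul] at h0
    obtain ⟨d, hd⟩ := (IsLocalizedModule.eq_zero_iff (Submonoid.powers f) (TensorProduct.mk C C' N 1)).mp h0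
    rw [Submonoid.smul_def, smul_smul] at hd
    refine ⟨d * g, fun hm => (P₂.2.mem_or_mem hm).elim (fun h => ?_) (fun h => hP₂ (Ideal.mul_mem_left _ _ h)), hd⟩
    obtain ⟨k, hk⟩ := d.2
    exact hf₂ (P₂.2.mem_of_pow_mem k (by rw [← hk] at h; exact h))
  · let R := Localization.AtPrime P₂.asIdeal
    letI : Algebra C' R := (IsLocalization.Away.lift f
      (IsLocalization.map_units R (⟨f, hf₂⟩ : P₂.asIdeal.primeCompl))).toAlgebra
    have : IsScalarTower C C' R := IsScalarTower.of_algebraMap_eq (R := C) (S := C') (A := R) fun c =>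
      (IsLocalization.Away.lift_eq f _ c).symm
    have : IsScalarTower A C' R := IsScalarTower.to₁₃₄ A C C' R
    have : IsLocalization.AtPrime R P₂.asIdeal := inferInstance
    have : Module.Flat C' R := by
      have : Module.Flat C R := IsLocalization.flat R P₂.asIdeal.primeCompl
      exact (Module.flat_iff_of_isLocalization C' (Submonoid.powers f) R).mpr inferInstance
    have : Module.Flat A (R ⊗[C'] (C' ⊗[C] (M ⧸ LinearMap.range u))) := flat_tensor
    exact Module.Flat.of_linearEquiv
      ((AlgebraTensorModule.cancelBaseChange C C' R R (M ⧸ LinearMap.range u)).restrictScalars A).symm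

end Groth.Agent.Fib62
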