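import Groth.Agent.Fib62.Model
import Groth.Agent.Open62.FlatLocus
import Mathlib.LinearAlgebra.TensorProduct.Quotient
import Mathlib.AlgebraicGeometry.Morphisms.FinitePresentation
import Mathlib.RingTheory.FinitePresentation

/-! The points at which a module is flat on the fibre form a locally constructible set. -/

set_option autoImplicit false
set_option backward.isDefEq.respectTransparency.types false
set_option linter.style.haveILetI false

universe u

open CategoryTheory Limits AlgebraicGeometry TopologicalSpace Opposite TensorProduct Topology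

namespace Groth.Agent.Fib62

open QC70 FlatMor68.FlatSections

variable {X Y S : Scheme.{u}} (f : X ⟶ Y) (h : Y ⟶ S) (F : X.Modules)

/-- The fibre module is flat over the fibre at `x`. -/
def FibFlatAt (x : X) : Prop :=
  letI := FlatMod.moduleStalkOver f F x
  Module.Flat (↑(Y.presheaf.stalk (f x)) ⧸ Ideal.map (h.stalkMap (f x)).hom (IsLocalRing.maximalIdeal ↑(S.presheaf.stalk (h (f x)))))
    (↑(F.presheaf.stalk x) ⧸ (Ideal.map (h.stalkMap (f x)).hom (IsLocalRing.maximalIdeal ↑(S.presheaf.stalk (h (f x)))) •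
      (⊤ : Submodule ↑(Y.presheaf.stalk (f x)) ↑(F.presheaf.stalk x))))

variable {V : S.Opens} {U : Y.Opens} {W : X.Opens}

theorem fibFlatAt_iff_goodAt (e₁ : U ≤ h ⁻¹ᵁ V) (e₂ : W ≤ f ⁻¹ᵁ U) (hV : IsAffineOpen V) (hU : IsAffineOpen U)
    (hW : IsAffineOpen W) (hF : IsLocAt F W) {x : X} (hx : x ∈ W) :
    letI : Algebra Γ(S, V) Γ(Y, U) := (h.appLE V U e₁).hom.toAlgebra
    letI : Algebra Γ(Y, U) Γ(X, W) := (f.appLE U W e₂).hom.toAlgebra
    letI : Algebra Γ(S, V) Γ(X, W) := ((f.appLE U W e₂).hom.comp (h.appLE V U e₁).hom).toAlgebra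
    haveI : IsScalarTower Γ(S, V) Γ(Y, U) Γ(X, W) := .of_algebraMap_eq' rfl
    FibFlatAt f h F x ↔ GoodAt Γ(S, V) Γ(Y, U) Γ(F, W) (hW.primeIdealOf ⟨x, hx⟩) := by
  letI : Algebra Γ(S, V) Γ(Y, U) := (h.appLE V U e₁).hom.toAlgebra
  letI : Algebra Γ(Y, U) Γ(X, W) := (f.appLE U W e₂).hom.toAlgebra
  letI : Algebra Γ(S, V) Γ(X, W) := ((f.appLE U W e₂).hom.comp (h.appLE V U e₁).hom).toAlgebra
  haveI : IsScalarTower Γ(S, V) Γ(Y, U) Γ(X, W) := .of_algebraMap_eq' rfl
  letI : Module Γ(Y, U) Γ(F, W) := Module.compHom _ (f.appLE U W e₂).hom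
  haveI : IsScalarTower Γ(Y, U) Γ(X, W) Γ(F, W) := IsScalarTower.of_algebraMap_smul fun r s => rfl
  let P := hW.primeIdealOf ⟨x, hx⟩
  have hy : f x ∈ U := e₂ hx
  have hs : h (f x) ∈ V := e₁ hy
  have hPq : P.asIdeal.under Γ(Y, U) = (hU.primeIdealOf ⟨f x, hy⟩).asIdeal :=
    congrArg PrimeSpectrum.asIdeal (IsAffineOpen.comap_primeIdealOf_appLE U hU W hW e₂ hx)
  have hPp : P.asIdeal.under Γ(S, V) = (hV.primeIdealOf ⟨h (f x), hs⟩).asIdeal := by
    rw [← Ideal.under_under (B := Γ(Y, U)), hPq]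
    exact congrArg PrimeSpectrum.asIdeal (IsAffineOpen.comap_primeIdealOf_appLE V hV U hU e₁ hy)
  letI : Algebra Γ(Y, U) (Y.presheaf.stalk (f x)) := (Y.presheaf.germ U (f x) hy).hom.toAlgebra
  haveI hloc : IsLocalization.AtPrime (Y.presheaf.stalk (f x)) (P.asIdeal.under Γ(Y, U)) := by
    have := hU.isLocalization_stalk ⟨f x, hy⟩
    simpa only [IsLocalization.AtPrime, hPq]
  letI : Algebra Γ(S, V) (S.presheaf.stalk (h (f x))) := (S.presheaf.germ V (h (f x)) hs).hom.toAlgebra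
  haveI : IsLocalization.AtPrime (S.presheaf.stalk (h (f x))) (hV.primeIdealOf ⟨h (f x), hs⟩).asIdeal :=
    hV.isLocalization_stalk ⟨h (f x), hs⟩
  letI : Algebra Γ(S, V) (Y.presheaf.stalk (f x)) :=
    ((Y.presheaf.germ U (f x) hy).hom.comp (h.appLE V U e₁).hom).toAlgebra
  haveI : IsScalarTower Γ(S, V) Γ(Y, U) (Y.presheaf.stalk (f x)) := .of_algebraMap_eq' rfl
  letI := stalkModule F hx
  haveI := isLocalizedModule_germ hF hW hx
  letI : Module Γ(Y, U) (F.presheaf.stalk x) :=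
    Module.compHom _ ((X.presheaf.germ W x hx).hom.comp (f.appLE U W e₂).hom)
  haveI : IsScalarTower Γ(Y, U) Γ(X, W) (F.presheaf.stalk x) :=
    IsScalarTower.of_algebraMap_smul fun r s => rfl
  letI := FlatMod.moduleStalkOver f F x
  haveI : IsScalarTower Γ(Y, U) (Y.presheaf.stalk (f x)) (F.presheaf.stalk x) :=
    IsScalarTower.of_algebraMap_smul fun r s => by
      change (f.stalkMap x).hom (Y.presheaf.germ U (f.base x) hy r) • s =
        (X.presheaf.germ W x hx ((f.appLE U W e₂).hom r)) • s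
      rw [stalkMap_germ_appLE f e₂ hx r]
  let eN : Localization.AtPrime P.asIdeal ⊗[Γ(X, W)] Γ(F, W) ≃ₗ[Γ(Y, U)] F.presheaf.stalk x :=
    ((LocalizedModule.equivTensorProduct P.asIdeal.primeCompl Γ(F, W)).symm.restrictScalars Γ(X, W) ≪≫ₗ
      IsLocalizedModule.iso P.asIdeal.primeCompl (germLinear F hx)).restrictScalars Γ(Y, U)
  rw [goodAt_iff_quotient (A := Γ(S, V)) Γ(F, W) P (Y.presheaf.stalk (f x)) (F.presheaf.stalk x) eN]
  let J := Ideal.map (h.stalkMap (f x)).hom (IsLocalRing.maximalIdeal (S.presheaf.stalk (h (f x))))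
  have hJ : (P.asIdeal.under Γ(S, V)).map (algebraMap Γ(S, V) (Y.presheaf.stalk (f x))) = J := by
    show _ = Ideal.map _ _
    rw [← IsLocalization.AtPrime.map_eq_maximalIdeal (hV.primeIdealOf ⟨h (f x), hs⟩).asIdeal
      (S.presheaf.stalk (h (f x))), Ideal.map_map, hPp]
    congr 1
    exact RingHom.ext fun a => (stalkMap_germ_appLE h e₁ hy a).symm
  rw [hJ]
  show Module.Flat (_ ⧸ J) (_ ⧸ (J • (⊤ : Submodule (Y.presheaf.stalk (f x)) (F.presheaf.stalk x)))) ↔ _
  exact Module.Flat.equiv_iff ((TensorProduct.quotTensorEquivQuotSMul (F.presheaf.stalk x) J).symm.extendScalarsOfSurjective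
    Ideal.Quotient.mk_surjective)

/-- The locus of flatness on fibres is locally constructible in the source. -/
theorem isLocallyConstructible_fibFlatAt [LocallyOfFinitePresentation h]
    [LocallyOfFinitePresentation (f ≫ h)] (hQ : Coh.IsQCoh F) (hF : CohB1.IsFP F) :
    IsLocallyConstructible {x : X | FibFlatAt f h F x} := by
  haveI : F.IsQuasicoherent := hQ
  haveI := hF
  intro x
  obtain ⟨V, hV, hxV, -⟩ := exists_isAffineOpen_mem_and_subset (X := S) (x := h (f x)) (U := ⊤) trivial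
  obtain ⟨U, hU, hxU, e₁⟩ := exists_isAffineOpen_mem_and_subset (X := Y) (x := f x) (U := h ⁻¹ᵁ V) hxV
  obtain ⟨W, hW, hxW, e₂⟩ := exists_isAffineOpen_mem_and_subset (X := X) (x := x) (U := f ⁻¹ᵁ U) hxU
  refine ⟨W, W.2.mem_nhds hxW, W.2, ?_⟩
  have hA : (h.appLE V U e₁).hom.FinitePresentation := h.finitePresentation_appLE hV hU e₁
  have hC : ((f.appLE U W e₂).hom.comp (h.appLE V U e₁).hom).FinitePresentation := by
    have h0 := (f ≫ h).finitePresentation_appLE hV hW (fun y hy => e₁ (e₂ hy))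
    rwa [← Scheme.Hom.appLE_comp_appLE f h V U W e₁ e₂, CommRingCat.hom_comp] at h0
  letI : Algebra Γ(S, V) Γ(Y, U) := (h.appLE V U e₁).hom.toAlgebra
  letI : Algebra Γ(Y, U) Γ(X, W) := (f.appLE U W e₂).hom.toAlgebra
  letI : Algebra Γ(S, V) Γ(X, W) := ((f.appLE U W e₂).hom.comp (h.appLE V U e₁).hom).toAlgebra
  haveI : IsScalarTower Γ(S, V) Γ(Y, U) Γ(X, W) := .of_algebraMap_eq' rfl
  haveI : Algebra.FinitePresentation Γ(S, V) Γ(Y, U) := hA
  haveI : Algebra.FinitePresentation Γ(S, V) Γ(X, W) := hC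
  haveI : Algebra.FinitePresentation Γ(Y, U) Γ(X, W) :=
    Algebra.FinitePresentation.of_restrict_scalars_finitePresentation Γ(S, V) Γ(Y, U) Γ(X, W)
  haveI := Props58.LocFree.finitePresentation_sections F hW
  have h0 := isConstructible_goodAt_of_finitePresentation (A := Γ(S, V)) (B := Γ(Y, U)) (C := Γ(X, W)) Γ(F, W)
  have h2 := (hW.isoSpec.hom).isConstructible_preimage h0
  have hset : ((↑) : W → X) ⁻¹' {x : X | FibFlatAt f h F x} =
      (fun z : W => hW.isoSpec.hom z) ⁻¹' {P : PrimeSpectrum Γ(X, W) | GoodAt Γ(S, V) Γ(Y, U) Γ(F, W) P} := by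
    ext ⟨y, hy⟩
    exact fibFlatAt_iff_goodAt f h F e₁ e₂ hV hU hW (isLocAt_of_isQuasicoherent F hW) hy
  exact hset ▸ h2

end Groth.Agent.Fib62
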