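import Groth.Agent.Fib62.InjCokerMain
import Groth.Agent.Open62.FlatLocus
import Groth.Agent.QC70.Stalk

/-! Injectivity with flat cokernel at a point of a scheme. -/

set_option autoImplicit false
set_option backward.isDefEq.respectTransparency.types false
set_option linter.style.haveILetI false

universe u

open CategoryTheory Limits AlgebraicGeometry TopologicalSpace Opposite TensorProduct Topology

namespace Groth.Agent.Fib62

open QC70 FlatMor68.FlatSections

section
variable {X : Scheme.{u}} {F F' : X.Modules} (φ : F' ⟶ F) (x : X)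

/-- The stalk of the cokernel is the cokernel of the stalk map. -/
theorem ker_stalkLinear_cokernelπ :
    LinearMap.ker (stalkLinear (cokernel.π φ) x) = LinearMap.range (stalkLinear φ x) := by
  let ψ := kernel.lift (cokernel.π φ) φ (cokernel.condition φ)
  have hψ : Epi ψ := inferInstanceAs (Epi (CategoryTheory.Abelian.factorThruImage φ))
  let S : ShortComplex X.Modules := ShortComplex.mk (kernel.ι (cokernel.π φ)) (cokernel.π φ) (kernel.condition _)
  have hS : S.Exact := ShortComplex.exact_of_f_is_kernel S (kernelIsKernel _)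
  ext m
  constructor
  · intro hm
    obtain ⟨d, hd⟩ := stalkMapM_exact S hS x m hm
    obtain ⟨e, rfl⟩ := surjective_stalkMapM_of_epi ψ x d
    refine ⟨e, ?_⟩
    obtain ⟨W, hxW, s, rfl⟩ := germM_exist e
    rw [stalkMapM_germ, stalkMapM_germ, ← ConcreteCategory.comp_apply, ← Scheme.Modules.Hom.comp_app,
      kernel.lift_ι] at hd
    rw [← hd]
    exact stalkMapM_germ φ hxW s
  · rintro ⟨d, rfl⟩
    obtain ⟨W, hxW, s, rfl⟩ := germM_exist d
    show stalkMapM (cokernel.π φ) x (stalkMapM φ x _) = 0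
    rw [stalkMapM_germ, stalkMapM_germ, ← ConcreteCategory.comp_apply, ← Scheme.Modules.Hom.comp_app,
      cokernel.condition, Scheme.Modules.Hom.zero_app]
    exact germM_zero hxW

end

variable {X Y : Scheme.{u}} (f : X ⟶ Y) {F F' : X.Modules} (φ : F' ⟶ F) {U : X.Opens} {V : Y.Opens}

/-- Sections of a map over an open as a linear map. -/
noncomputable def appLinear (U : X.Opens) : Γ(F', U) →ₗ[Γ(X, U)] Γ(F, U) where
  toFun := φ.app U
  map_add' := map_add _
  map_smul' := fun a s => Scheme.Modules.Hom.app_smul φ a s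

theorem stalk_facts (e : U ≤ f ⁻¹ᵁ V) (hU : IsAffineOpen U) (hV : IsAffineOpen V)
    (hM : IsLocAt F U) (hN : IsLocAt F' U) {x : X} (hx : x ∈ U) :
    letI : Algebra Γ(Y, V) Γ(X, U) := (f.appLE V U e).hom.toAlgebra
    letI : Module Γ(Y, V) Γ(F, U) := Module.compHom _ (f.appLE V U e).hom
    letI : Module Γ(Y, V) Γ(F', U) := Module.compHom _ (f.appLE V U e).hom
    haveI : IsScalarTower Γ(Y, V) Γ(X, U) Γ(F, U) := IsScalarTower.of_algebraMap_smul fun _ _ => rfl
    letI P := hU.primeIdealOf ⟨x, hx⟩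
    letI J : Ideal ↑(X.presheaf.stalk x) :=
      Ideal.map (f.stalkMap x).hom (IsLocalRing.maximalIdeal ↑(Y.presheaf.stalk (f x)))
    letI ux := (TopCat.Presheaf.stalkFunctor Ab x).map (Scheme.Modules.Hom.mapPresheaf φ)
    (Function.Injective ux ↔ InjAt (appLinear φ U) P) ∧
    (FlatMod.IsFlatOverAt f (cokernel φ) x ↔ Module.Flat Γ(Y, V)
      (Localization.AtPrime P.asIdeal ⊗[Γ(X, U)] (Γ(F, U) ⧸ LinearMap.range (appLinear φ U)))) ∧
    (FlatMod.IsFlatOverAt f F x ↔ Module.Flat Γ(Y, V) (Localization.AtPrime P.asIdeal ⊗[Γ(X, U)] Γ(F, U))) ∧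
    ((∀ m : ↑(F'.presheaf.stalk x),
        ux m ∈ (J • (⊤ : Submodule ↑(X.presheaf.stalk x) ↑(F.presheaf.stalk x))) →
          m ∈ (J • (⊤ : Submodule ↑(X.presheaf.stalk x) ↑(F'.presheaf.stalk x)))) ↔
      InjFib Γ(Y, V) (appLinear φ U) P) := by
  letI : Algebra Γ(Y, V) Γ(X, U) := (f.appLE V U e).hom.toAlgebra
  letI : Module Γ(Y, V) Γ(F, U) := Module.compHom _ (f.appLE V U e).hom
  letI : Module Γ(Y, V) Γ(F', U) := Module.compHom _ (f.appLE V U e).hom
  haveI : IsScalarTower Γ(Y, V) Γ(X, U) Γ(F, U) := IsScalarTower.of_algebraMap_smul fun _ _ => rfl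
  haveI : IsScalarTower Γ(Y, V) Γ(X, U) Γ(F', U) := IsScalarTower.of_algebraMap_smul fun _ _ => rfl
  let P := hU.primeIdealOf ⟨x, hx⟩
  let u := appLinear φ U
  let O := X.presheaf.stalk x
  let Cp := Localization.AtPrime P.asIdeal
  letI := stalkModule F hx
  letI := stalkModule F' hx
  haveI := isLocalizedModule_germ hM hU hx
  haveI := isLocalizedModule_germ hN hU hx
  letI : Module Γ(Y, V) (F.presheaf.stalk x) :=
    Module.compHom _ ((X.presheaf.germ U x hx).hom.comp (f.appLE V U e).hom)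
  letI : Module Γ(Y, V) (F'.presheaf.stalk x) :=
    Module.compHom _ ((X.presheaf.germ U x hx).hom.comp (f.appLE V U e).hom)
  haveI : IsScalarTower Γ(Y, V) Γ(X, U) (F.presheaf.stalk x) := IsScalarTower.of_algebraMap_smul fun _ _ => rfl
  haveI : IsScalarTower Γ(Y, V) Γ(X, U) (F'.presheaf.stalk x) := IsScalarTower.of_algebraMap_smul fun _ _ => rfl
  letI : Algebra Γ(X, U) O := (X.presheaf.germ U x hx).hom.toAlgebra
  letI : Algebra Γ(Y, V) O := ((X.presheaf.germ U x hx).hom.comp (f.appLE V U e).hom).toAlgebra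
  haveI : IsScalarTower Γ(X, U) O (F.presheaf.stalk x) := IsScalarTower.of_algebraMap_smul fun _ _ => rfl
  haveI : IsScalarTower Γ(X, U) O (F'.presheaf.stalk x) := IsScalarTower.of_algebraMap_smul fun _ _ => rfl
  haveI : IsScalarTower Γ(Y, V) O (F.presheaf.stalk x) := IsScalarTower.of_algebraMap_smul fun _ _ => rfl
  haveI : IsScalarTower Γ(Y, V) O (F'.presheaf.stalk x) := IsScalarTower.of_algebraMap_smul fun _ _ => rfl
  let ux := (stalkLinear φ x).restrictScalars Γ(X, U)
  let eN : Cp ⊗[Γ(X, U)] Γ(F', U) ≃ₗ[Γ(X, U)] F'.presheaf.stalk x :=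
    (LocalizedModule.equivTensorProduct P.asIdeal.primeCompl Γ(F', U)).symm.restrictScalars Γ(X, U) ≪≫ₗ
      IsLocalizedModule.iso P.asIdeal.primeCompl (germLinear F' hx)
  let eM : Cp ⊗[Γ(X, U)] Γ(F, U) ≃ₗ[Γ(X, U)] F.presheaf.stalk x :=
    (LocalizedModule.equivTensorProduct P.asIdeal.primeCompl Γ(F, U)).symm.restrictScalars Γ(X, U) ≪≫ₗ
      IsLocalizedModule.iso P.asIdeal.primeCompl (germLinear F hx)
  have h1N : ∀ n, eN ((1 : Cp) ⊗ₜ n) = germLinear F' hx n := fun n => by
    show IsLocalizedModule.iso P.asIdeal.primeCompl (germLinear F' hx)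
      ((LocalizedModule.equivTensorProduct P.asIdeal.primeCompl Γ(F', U)).symm ((1 : Cp) ⊗ₜ n)) = _
    rw [LocalizedModule.equivTensorProduct_symm_apply_tmul_one, IsLocalizedModule.iso_mk_one]
  have h1M : ∀ n, eM ((1 : Cp) ⊗ₜ n) = germLinear F hx n := fun n => by
    show IsLocalizedModule.iso P.asIdeal.primeCompl (germLinear F hx)
      ((LocalizedModule.equivTensorProduct P.asIdeal.primeCompl Γ(F, U)).symm ((1 : Cp) ⊗ₜ n)) = _
    rw [LocalizedModule.equivTensorProduct_symm_apply_tmul_one, IsLocalizedModule.iso_mk_one]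
  have hcomm : ∀ z, eM (u.baseChange Cp z) = ux (eN z) := by
    have : eM.toLinearMap ∘ₗ (u.baseChange Cp).restrictScalars Γ(X, U) = ux ∘ₗ eN.toLinearMap := by
      refine IsLocalizedModule.ext P.asIdeal.primeCompl (TensorProduct.mk Γ(X, U) Cp Γ(F', U) 1)
        (fun s => IsLocalizedModule.map_units (germLinear F hx) s) (LinearMap.ext fun n => ?_)
      show eM (u.baseChange Cp ((1 : Cp) ⊗ₜ n)) = ux (eN ((1 : Cp) ⊗ₜ n))
      rw [LinearMap.baseChange_tmul, h1M, h1N]
      exact (stalkMapM_germ φ hx n).symm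
    exact fun z => LinearMap.congr_fun this z
  have hinj : Function.Injective ux ↔ Function.Injective (u.baseChange Cp) := by
    constructor
    · intro h z w hzw
      exact eN.injective (h (by rw [← hcomm, ← hcomm, hzw]))
    · intro h z w hzw
      obtain ⟨z, rfl⟩ := eN.surjective z
      obtain ⟨w, rfl⟩ := eN.surjective w
      rw [← hcomm, ← hcomm] at hzw
      rw [h (eM.injective hzw)]
  letI : Algebra Γ(Y, V) (Y.presheaf.stalk (f x)) := (Y.presheaf.germ V (f x) (e hx)).hom.toAlgebra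
  haveI : IsLocalization.AtPrime (Y.presheaf.stalk (f x)) (hV.primeIdealOf ⟨f x, e hx⟩).asIdeal :=
    hV.isLocalization_stalk ⟨f x, e hx⟩
  have htow : ∀ (G : X.Modules), letI := FlatMod.moduleStalkOver f G x
      letI : Module Γ(Y, V) (G.presheaf.stalk x) :=
        Module.compHom _ ((X.presheaf.germ U x hx).hom.comp (f.appLE V U e).hom)
      (FlatMod.IsFlatOverAt f G x ↔ Module.Flat Γ(Y, V) (G.presheaf.stalk x)) := fun G => by
    letI := FlatMod.moduleStalkOver f G x
    letI : Module Γ(Y, V) (G.presheaf.stalk x) :=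
      Module.compHom _ ((X.presheaf.germ U x hx).hom.comp (f.appLE V U e).hom)
    haveI : IsScalarTower Γ(Y, V) (Y.presheaf.stalk (f x)) (G.presheaf.stalk x) :=
      IsScalarTower.of_algebraMap_smul fun r s => by
        change (f.stalkMap x).hom (Y.presheaf.germ V (f.base x) (e hx) r) • s =
          (X.presheaf.germ U x hx ((f.appLE V U e).hom r)) • s
        rw [stalkMap_germ_appLE f e hx r]
    exact Module.flat_iff_of_isLocalization (Y.presheaf.stalk (f x))
      (hV.primeIdealOf ⟨f x, e hx⟩).asIdeal.primeCompl (G.presheaf.stalk x)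
  refine ⟨hinj.trans (injAt_iff u P).symm, ?_, ?_, ?_⟩
  · rw [htow (cokernel φ)]
    letI := stalkModule (cokernel φ) hx
    letI : Module Γ(Y, V) ((cokernel φ).presheaf.stalk x) :=
      Module.compHom _ ((X.presheaf.germ U x hx).hom.comp (f.appLE V U e).hom)
    haveI : IsScalarTower Γ(Y, V) Γ(X, U) ((cokernel φ).presheaf.stalk x) := IsScalarTower.of_algebraMap_smul fun _ _ => rfl
    haveI : IsScalarTower Γ(X, U) O ((cokernel φ).presheaf.stalk x) := IsScalarTower.of_algebraMap_smul fun _ _ => rfl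
    let π := stalkLinear (cokernel.π φ) x
    have hπ : Function.Surjective π := surjective_stalkMapM_of_epi _ x
    let e1 : (F.presheaf.stalk x ⧸ LinearMap.range ux) ≃ₗ[Γ(X, U)] (cokernel φ).presheaf.stalk x :=
      Submodule.quotEquivOfEq _ (LinearMap.ker (π.restrictScalars Γ(X, U))) (by
          rw [LinearMap.ker_restrictScalars, ker_stalkLinear_cokernelπ, ← LinearMap.range_restrictScalars]) ≪≫ₗ
        (π.restrictScalars Γ(X, U)).quotKerEquivOfSurjective hπ
    let e2 : ((Cp ⊗[Γ(X, U)] Γ(F, U)) ⧸ LinearMap.range ((u.baseChange Cp).restrictScalars Γ(X, U))) ≃ₗ[Γ(X, U)]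
        (F.presheaf.stalk x ⧸ LinearMap.range ux) :=
      Submodule.Quotient.equiv _ _ eM (by
        ext y
        constructor
        · rintro ⟨_, ⟨z, rfl⟩, rfl⟩
          exact ⟨eN z, (hcomm z).symm⟩
        · rintro ⟨z, rfl⟩
          refine ⟨_, ⟨eN.symm z, rfl⟩, ?_⟩
          show eM (u.baseChange Cp (eN.symm z)) = ux z
          rw [hcomm, LinearEquiv.apply_symm_apply])
    let e3 : ((Cp ⊗[Γ(X, U)] Γ(F, U)) ⧸ LinearMap.range ((u.baseChange Cp).restrictScalars Γ(X, U))) ≃ₗ[Γ(X, U)]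
        Cp ⊗[Γ(X, U)] (Γ(F, U) ⧸ LinearMap.range u) :=
      Submodule.quotEquivOfEq _ _ (LinearMap.range_restrictScalars _) ≪≫ₗ
        Submodule.Quotient.restrictScalarsEquiv Γ(X, U) _ ≪≫ₗ (cokerBaseChange u Cp).restrictScalars Γ(X, U)
    exact Module.Flat.equiv_iff ((e1.symm ≪≫ₗ e2.symm ≪≫ₗ e3).restrictScalars Γ(Y, V))
  · rw [htow F]
    exact Module.Flat.equiv_iff (eM.symm.restrictScalars Γ(Y, V))
  · have hJ : Ideal.map (f.stalkMap x).hom (IsLocalRing.maximalIdeal (Y.presheaf.stalk (f x))) =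
        (P.asIdeal.under Γ(Y, V)).map (algebraMap Γ(Y, V) O) := by
      rw [← IsLocalization.AtPrime.map_eq_maximalIdeal (hV.primeIdealOf ⟨f x, e hx⟩).asIdeal
        (Y.presheaf.stalk (f x)), Ideal.map_map]
      congr 1
      · exact RingHom.ext fun a => stalkMap_germ_appLE f e hx a
      · exact (congrArg PrimeSpectrum.asIdeal (IsAffineOpen.comap_primeIdealOf_appLE V hV U hU e hx)).symm
    rw [hJ, injFib_iff_mem]
    let p := P.asIdeal.under Γ(Y, V)
    have hto : ∀ {G : Type u} [AddCommGroup G] [Module Γ(Y, V) G] {G' : Type u} [AddCommGroup G'] [Module Γ(Y, V) G']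
        (g : G ≃ₗ[Γ(Y, V)] G') (w : G), g w ∈ p • (⊤ : Submodule Γ(Y, V) G') ↔ w ∈ p • (⊤ : Submodule Γ(Y, V) G) := by
      intro G _ _ G' _ _ g w
      have : (p • (⊤ : Submodule Γ(Y, V) G)).map g.toLinearMap = p • ⊤ := by
        rw [Submodule.map_smul'', Submodule.map_top, LinearMap.range_eq_top.mpr g.surjective]
      rw [← this]
      exact ⟨fun ⟨z, hz, hzw⟩ => g.injective hzw ▸ hz, fun hz => ⟨w, hz, rfl⟩⟩
    constructor
    · intro H z hz
      rw [mem_map_smul_iff] at hz ⊢
      rw [← hto (eN.restrictScalars Γ(Y, V)) z, ← mem_map_smul_iff (S := O)]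
      apply H
      rw [← hto (eM.restrictScalars Γ(Y, V))] at hz
      refine (mem_map_smul_iff (S := O) p (ux (eN z))).mpr ?_
      rw [← hcomm]
      exact hz
    · intro H m hm
      obtain ⟨z, rfl⟩ := eN.surjective m
      replace hm := (mem_map_smul_iff (S := O) p (ux (eN z))).mp hm
      rw [mem_map_smul_iff]
      refine (hto (eN.restrictScalars Γ(Y, V)) z).mpr ?_
      rw [← mem_map_smul_iff (S := Cp)]
      apply H
      rw [mem_map_smul_iff, ← hto (eM.restrictScalars Γ(Y, V))]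
      show eM _ ∈ _
      rw [hcomm]
      exact hm

end Groth.Agent.Fib62
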