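import Groth.Agent.Fib62.Link
import Groth.Agent.Stage62.Flat
import Groth.Agent.GenFree62.Generic
import Groth.Agent.FlatCrit65.FlatLocus.Module
import Mathlib.RingTheory.Spectrum.Prime.Noetherian
import Mathlib.RingTheory.Spectrum.Prime.ConstructibleSet

/-! The locus of flatness on fibres is constructible. -/

set_option autoImplicit false
universe u

open TensorProduct Topology TopologicalSpace

namespace Groth.Agent.Fib62

attribute [local instance] Algebra.TensorProduct.rightAlgebra

variable {A B C : Type u} [CommRing A] [CommRing B] [CommRing C] [Algebra A B] [Algebra B C] [Algebra A C]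
  [IsScalarTower A B C] (M : Type u) [AddCommGroup M] [Module C M]

theorem goodAt_of_flat [Module B M] [IsScalarTower B C M] (P : PrimeSpectrum C)
    (h : Module.Flat B (Localization.AtPrime P.asIdeal ⊗[C] M)) : GoodAt A B M P :=
  (goodAt_iff_tensor M P).mpr inferInstance

/-- The fibre criterion of flatness, from `GoodAt`. -/
theorem flat_of_goodAt [IsNoetherianRing A] [IsNoetherianRing B] [IsNoetherianRing C]
    [Module B M] [IsScalarTower B C M] [Module.Finite C M] (P : PrimeSpectrum C)
    [Module.Flat A (Localization.AtPrime P.asIdeal ⊗[C] M)] (h : GoodAt A B M P) :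
    Module.Flat B (Localization.AtPrime P.asIdeal ⊗[C] M) := by
  let q := P.asIdeal.under B
  let p := q.under A
  let N := Localization.AtPrime P.asIdeal ⊗[C] M
  rcases subsingleton_or_nontrivial N with hN | hN
  · infer_instance
  let Ap := Localization.AtPrime p
  let Bq := Localization.AtPrime q
  let Cp := Localization.AtPrime P.asIdeal
  letI : Algebra Ap Bq := Localization.AtPrime.algebraOfLiesOver p q
  letI : Algebra Bq Cp := Localization.AtPrime.algebraOfLiesOver q P.asIdeal
  letI : Algebra Ap Cp := ((algebraMap Bq Cp).comp (algebraMap Ap Bq)).toAlgebra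
  have : IsScalarTower Ap Bq Cp := .of_algebraMap_eq' rfl
  have : IsScalarTower A Ap Cp := .of_algebraMap_eq fun a => by
    rw [IsScalarTower.algebraMap_apply A B Cp, IsScalarTower.algebraMap_apply B Bq Cp,
      ← IsScalarTower.algebraMap_apply A B Bq, IsScalarTower.algebraMap_apply A Ap Bq]
    rfl
  have : IsLocalHom (algebraMap Ap Bq) :=
    Localization.isLocalHom_localRingHom p q (algebraMap A B) Ideal.LiesOver.over
  have : IsLocalHom (algebraMap Bq Cp) :=
    Localization.isLocalHom_localRingHom q P.asIdeal (algebraMap B C) Ideal.LiesOver.over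
  have : Module.Flat Ap N := (Module.flat_iff_of_isLocalization Ap p.primeCompl N).mpr inferInstance
  have hJ : (P.asIdeal.under A).map (algebraMap A Bq) = (IsLocalRing.maximalIdeal Ap).map (algebraMap Ap Bq) := by
    rw [← Localization.AtPrime.map_eq_maximalIdeal, Ideal.map_map, ← IsScalarTower.algebraMap_eq]
    simp only [p, q, Ideal.under_under]
  have h' := (goodAt_iff_quotient M P Bq N (LinearEquiv.refl B N)).mp h
  rw [hJ] at h'
  have hflat := (S0392.result (R := Ap) (S := Bq) (S' := Cp) (M := N) h').2
  exact (Module.flat_iff_of_isLocalization Bq q.primeCompl N).mp hflat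

theorem exists_isOpen_goodAt [IsDomain A] [IsNoetherianRing A] [Algebra.FiniteType A B]
    [Algebra.FiniteType A C] [Module B M] [IsScalarTower B C M] [Module A M] [IsScalarTower A C M]
    [Module.Finite C M] :
    ∃ h : A, h ≠ 0 ∧ IsOpen ({P : PrimeSpectrum C | GoodAt A B M P} ∩
      (PrimeSpectrum.basicOpen (algebraMap A C h) : Set (PrimeSpectrum C))) := by
  have : IsNoetherianRing B := Algebra.FiniteType.isNoetherianRing A B
  have : IsNoetherianRing C := Algebra.FiniteType.isNoetherianRing A C
  have : Algebra.FiniteType B C := Algebra.FiniteType.of_restrictScalars_finiteType A B C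
  have : Algebra.FinitePresentation B C := Algebra.FinitePresentation.of_finiteType.mp inferInstance
  have : Module.FinitePresentation C M := Module.finitePresentation_of_finite C M
  obtain ⟨h, h0, hfree⟩ := GenFree62.exists_freeAway (A := A) (B := C) (M := M)
  refine ⟨h, h0, ?_⟩
  suffices {P : PrimeSpectrum C | GoodAt A B M P} ∩ (PrimeSpectrum.basicOpen (algebraMap A C h) : Set (PrimeSpectrum C)) =
      {P : PrimeSpectrum C | Module.Flat B (LocalizedModule P.asIdeal.primeCompl M)} ∩
        (PrimeSpectrum.basicOpen (algebraMap A C h) : Set (PrimeSpectrum C)) by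
    rw [this]
    exact FlatCrit65.isOpen_flat_locus_module.inter (PrimeSpectrum.basicOpen _).2
  ext P
  simp only [Set.mem_inter_iff, Set.mem_ofPred_eq, and_congr_left_iff]
  intro hP
  rw [Module.Flat.equiv_iff ((LocalizedModule.equivTensorProduct P.asIdeal.primeCompl M).restrictScalars B)]
  refine ⟨fun hg => ?_, goodAt_of_flat M P⟩
  have : Module.Flat A (Localization.AtPrime P.asIdeal ⊗[C] M) :=
    Cons62.flat_atPrime_of_freeAway hfree P.asIdeal hP
  exact flat_of_goodAt M P hg

theorem isConstructible_goodAt_inter [IsNoetherianRing A] [Algebra.FiniteType A B] [Algebra.FiniteType A C]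
    [Module.Finite C M] (I : Ideal A) :
    IsConstructible ({P : PrimeSpectrum C | GoodAt A B M P} ∩
      PrimeSpectrum.comap (algebraMap A C) ⁻¹' PrimeSpectrum.zeroLocus (I : Set A)) := by
  have : IsNoetherianRing C := Algebra.FiniteType.isNoetherianRing A C
  induction I using WellFoundedGT.induction with
  | _ I ih =>
    by_cases htop : I = ⊤
    · simp [htop]
    by_cases hrad : I.radical = I
    swap
    · have := ih I.radical (lt_of_le_of_ne Ideal.le_radical (Ne.symm hrad))
      rwa [PrimeSpectrum.zeroLocus_radical] at this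
    by_cases hprime : I.IsPrime
    swap
    · obtain h | ⟨a, ha, b, hb, hab⟩ := Ideal.not_isPrime_iff.mp hprime
      · exact absurd h htop
      have hlt : ∀ c : A, c ∉ I → I < I ⊔ Ideal.span {c} := fun c hc =>
        lt_of_le_of_ne le_sup_left fun h => hc (h ▸ Ideal.mem_sup_right (Ideal.mem_span_singleton_self c))
      have h1 := (ih _ (hlt a ha)).union (ih _ (hlt b hb))
      convert h1 using 1
      ext P
      simp only [Set.mem_inter_iff, Set.mem_preimage, Set.mem_union, PrimeSpectrum.mem_zeroLocus,
        SetLike.coe_subset_coe, sup_le_iff, Ideal.span_singleton_le_iff_mem]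
      constructor
      · rintro ⟨hP, hI⟩
        exact ((PrimeSpectrum.comap (algebraMap A C) P).2.mem_or_mem (hI hab)).imp
          (fun h => ⟨hP, hI, h⟩) fun h => ⟨hP, hI, h⟩
      · rintro (⟨hP, hI, -⟩ | ⟨hP, hI, -⟩) <;> exact ⟨hP, hI⟩
    let A' := A ⧸ I
    let B' := A' ⊗[A] B
    let C' := A' ⊗[A] C
    have : IsDomain A' := Ideal.Quotient.isDomain I
    letI : Algebra B' C' :=
      (Algebra.TensorProduct.map (AlgHom.id A' A') (IsScalarTower.toAlgHom A B C)).toRingHom.toAlgebra
    have : IsScalarTower A' B' C' := IsScalarTower.of_algebraMap_eq (R := A') (S := B') (A := C') fun x => by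
      show x ⊗ₜ[A] (1 : C) = Algebra.TensorProduct.map _ _ (x ⊗ₜ[A] (1 : B))
      simp
    letI : Algebra B C' := ((algebraMap C C').comp (algebraMap B C)).toAlgebra
    have : IsScalarTower B C C' := IsScalarTower.of_algebraMap_eq (R := B) (S := C) (A := C') fun _ => rfl
    have : IsScalarTower B B' C' := IsScalarTower.of_algebraMap_eq (R := B) (S := B') (A := C') fun b => by
      show (1 : A') ⊗ₜ[A] algebraMap B C b = Algebra.TensorProduct.map _ _ ((1 : A') ⊗ₜ[A] b)
      simp
    let M' := C' ⊗[C] M
    have : IsScalarTower A' C' M' := inferInstance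
    have : IsScalarTower B' C' M' := inferInstance
    obtain ⟨h, h0, hopen⟩ := exists_isOpen_goodAt (A := A') (B := B') (C := C') M'
    obtain ⟨h, rfl⟩ := Ideal.Quotient.mk_surjective h
    have hh : h ∉ I := fun hh => h0 (Ideal.Quotient.eq_zero_iff_mem.mpr hh)
    have hih := ih (I ⊔ Ideal.span {h})
      (lt_of_le_of_ne le_sup_left fun e => hh (e ▸ Ideal.mem_sup_right (Ideal.mem_span_singleton_self h)))
    have hsurj : Function.Surjective (algebraMap C C') :=
      TensorProduct.mk_surjective A C A' Ideal.Quotient.mk_surjective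
    have : IsNoetherianRing C' := isNoetherianRing_of_surjective C C' (algebraMap C C') hsurj
    have he := PrimeSpectrum.isClosedEmbedding_comap_of_surjective C' (algebraMap C C') hsurj
    have himg := (IsRetrocompact.isConstructible hopen (fun U _ _ => NoetherianSpace.isCompact _)).image_of_isClosedEmbedding
      he (fun U _ _ => NoetherianSpace.isCompact _)
    convert hih.union himg using 1
    ext P
    simp only [Set.mem_inter_iff, Set.mem_preimage, Set.mem_union, PrimeSpectrum.mem_zeroLocus,
      SetLike.coe_subset_coe, sup_le_iff, Ideal.span_singleton_le_iff_mem, Set.mem_image, Set.mem_ofPred_eq,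
      SetLike.mem_coe, PrimeSpectrum.mem_basicOpen]
    have hcomm : ∀ a : A, algebraMap A' C' (Ideal.Quotient.mk I a) = algebraMap C C' (algebraMap A C a) :=
      fun a => by
        rw [← IsScalarTower.algebraMap_apply A C C', IsScalarTower.algebraMap_apply A A' C']
        rfl
    constructor
    · rintro ⟨hP, hI⟩
      by_cases hPh : h ∈ (PrimeSpectrum.comap (algebraMap A C) P).asIdeal
      · exact Or.inl ⟨hP, hI, hPh⟩
      obtain ⟨P', hP'⟩ : P ∈ Set.range (PrimeSpectrum.comap (algebraMap C C')) := by
        rw [range_comap_of_surjective _ _ hsurj, PrimeSpectrum.mem_zeroLocus, SetLike.coe_subset_coe]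
        intro c hc
        let g : C' →ₐ[A] C ⧸ I.map (algebraMap A C) := Algebra.TensorProduct.lift
          (Ideal.Quotient.liftₐ I (Algebra.ofId A _) fun a ha =>
            Ideal.Quotient.eq_zero_iff_mem.mpr (Ideal.mem_map_of_mem _ ha))
          (Ideal.Quotient.mkₐ A _) fun _ _ => .all _ _
        have hg : g (algebraMap C C' c) = Ideal.Quotient.mk _ c := by
          show Algebra.TensorProduct.lift _ _ _ ((1 : A') ⊗ₜ[A] c) = _
          rw [Algebra.TensorProduct.lift_tmul, map_one, one_mul]
          rfl
        rw [RingHom.mem_ker.mp hc, map_zero] at hg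
        replace hc := Ideal.Quotient.eq_zero_iff_mem.mp hg.symm
        exact Ideal.map_le_iff_le_comap.mpr hI hc
      refine Or.inr ⟨P', ⟨(goodAt_baseChange M P').mpr (hP'.symm ▸ hP), ?_⟩, hP'⟩
      rw [hcomm]
      intro hmem
      exact hPh (by rw [← hP']; exact hmem)
    · rintro (⟨hP, hI, -⟩ | ⟨P', ⟨hg, -⟩, rfl⟩)
      · exact ⟨hP, hI⟩
      refine ⟨(goodAt_baseChange M P').mp hg, fun a ha => ?_⟩
      show algebraMap C C' (algebraMap A C a) ∈ P'.asIdeal
      rw [← hcomm, Ideal.Quotient.eq_zero_iff_mem.mpr ha, map_zero]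
      exact zero_mem _

/-- The locus of flatness on fibres is constructible over a Noetherian base. -/
theorem isConstructible_goodAt [IsNoetherianRing A] [Algebra.FiniteType A B] [Algebra.FiniteType A C]
    [Module.Finite C M] : IsConstructible {P : PrimeSpectrum C | GoodAt A B M P} := by
  simpa using isConstructible_goodAt_inter (A := A) (B := B) M (⊥ : Ideal A)

end Groth.Agent.Fib62
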