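import Groth.Agent.Fib62.InjCokerMain
import Groth.Agent.Open62.FlatLocus
import Mathlib.RingTheory.Regular.RegularSequence

/-! The locus where a sequence is weakly regular on the fibre of a flat module is open. -/

set_option autoImplicit false
set_option backward.isDefEq.respectTransparency.types false
set_option linter.style.haveILetI false

universe u

open CategoryTheory Limits AlgebraicGeometry TopologicalSpace Opposite TensorProduct Topology

namespace Groth.Agent.Fib62

open RingTheory.Sequence Pointwise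

section

attribute [local instance] Algebra.TensorProduct.rightAlgebra

theorem weaklyRegular_quot_iff {C R T : Type u} [CommRing C] [CommRing R] [CommRing T] [Algebra C R] [Algebra C T]
    (M : Type u) [AddCommGroup M] [Module C M] (τ : R →ₐ[C] T) (hτ : Function.Surjective τ) (gs : List C) :
    IsWeaklyRegular (T ⊗[C] M) gs ↔
      IsWeaklyRegular ((R ⊗[C] M) ⧸ (RingHom.ker τ • (⊤ : Submodule R (R ⊗[C] M)))) gs := by
  let K := (RingHom.ker τ • (⊤ : Submodule R (R ⊗[C] M))).restrictScalars C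
  have hk : LinearMap.ker (τ.toLinearMap.rTensor M) = K := Submodule.ext fun z => rTensor_eq_zero_iff τ hτ z
  let e : ((R ⊗[C] M) ⧸ K) ≃ₗ[C] T ⊗[C] M :=
    Submodule.quotEquivOfEq _ _ hk.symm ≪≫ₗ
      (τ.toLinearMap.rTensor M).quotKerEquivOfSurjective (LinearMap.rTensor_surjective M hτ)
  exact (LinearEquiv.isWeaklyRegular_congr ((Submodule.Quotient.restrictScalarsEquiv C _).symm ≪≫ₗ e) gs).symm

variable {A C : Type u} [CommRing A] [CommRing C] [Algebra A C] [Algebra.FinitePresentation A C]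

theorem flat_localized_iff (M : Type u) [AddCommGroup M] [Module C M] [Module A M] [IsScalarTower A C M]
    (P : PrimeSpectrum C) :
    Module.Flat A (Localization.AtPrime P.asIdeal ⊗[C] M) ↔ Module.Flat A (LocalizedModule P.asIdeal.primeCompl M) :=
  Module.Flat.equiv_iff ((LocalizedModule.equivTensorProduct P.asIdeal.primeCompl M).symm.restrictScalars A)

theorem isSMulRegular_fibreLocal_iff (M : Type u) [AddCommGroup M] [Module C M] (P : PrimeSpectrum C) (g : C) :
    IsSMulRegular (FibreLocal A P ⊗[C] M) g ↔ InjFib A (LinearMap.lsmul C M g) P := by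
  have : (LinearMap.lsmul C M g).lTensor (FibreLocal A P) = LinearMap.lsmul C (FibreLocal A P ⊗[C] M) g := by
    apply TensorProduct.ext'
    intro t m
    simp [tmul_smul]
  show Function.Injective _ ↔ Function.Injective ((LinearMap.lsmul C M g).lTensor (FibreLocal A P))
  rw [this]
  rfl

theorem isOpen_weaklyRegular_fibre (gs : List C) : ∀ (M : Type u) [AddCommGroup M] [Module C M] [Module A M]
    [IsScalarTower A C M] [Module.FinitePresentation C M],
    IsOpen {P : PrimeSpectrum C | Module.Flat A (Localization.AtPrime P.asIdeal ⊗[C] M) ∧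
      IsWeaklyRegular (FibreLocal A P ⊗[C] M) gs} := by
  induction gs with
  | nil =>
    intro M _ _ _ _ _
    have : {P : PrimeSpectrum C | Module.Flat A (Localization.AtPrime P.asIdeal ⊗[C] M) ∧
        IsWeaklyRegular (FibreLocal A P ⊗[C] M) ([] : List C)} =
        {P : PrimeSpectrum C | Module.Flat A (LocalizedModule P.asIdeal.primeCompl M)} := by
      ext P
      simp only [Set.mem_ofPred_eq, ← flat_localized_iff]
      exact ⟨fun h => h.1, fun h => ⟨h, IsWeaklyRegular.nil C _⟩⟩
    rw [this]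
    exact FlatCrit65.isOpen_flat_locus_module
  | cons g gs ih =>
    intro M _ _ _ _ _
    let u := LinearMap.lsmul C M g
    have hr : LinearMap.range u = g • (⊤ : Submodule C M) := by
      ext m
      simp [u, Submodule.mem_smul_pointwise_iff_exists]
    have : Module.FinitePresentation C (QuotSMulTop g M) :=
      Module.finitePresentation_of_surjective (Submodule.mkQ _) (Submodule.mkQ_surjective _) (by
        rw [Submodule.ker_mkQ, ← hr, LinearMap.range_eq_map]
        exact Module.Finite.fg_top.map u)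
    have key : {P : PrimeSpectrum C | Module.Flat A (Localization.AtPrime P.asIdeal ⊗[C] M) ∧
          IsWeaklyRegular (FibreLocal A P ⊗[C] M) (g :: gs)} =
        {P : PrimeSpectrum C | Module.Flat A (LocalizedModule P.asIdeal.primeCompl M)} ∩
        {P : PrimeSpectrum C | InjAt u P ∧
          Module.Flat A (Localization.AtPrime P.asIdeal ⊗[C] (M ⧸ LinearMap.range u))} ∩
        {P : PrimeSpectrum C | Module.Flat A (Localization.AtPrime P.asIdeal ⊗[C] QuotSMulTop g M) ∧
          IsWeaklyRegular (FibreLocal A P ⊗[C] QuotSMulTop g M) gs} := by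
      ext P
      simp only [Set.mem_inter_iff, Set.mem_ofPred_eq, ← flat_localized_iff]
      have hQ : Module.Flat A (Localization.AtPrime P.asIdeal ⊗[C] (M ⧸ LinearMap.range u)) ↔
          Module.Flat A (Localization.AtPrime P.asIdeal ⊗[C] QuotSMulTop g M) :=
        Module.Flat.equiv_iff ((AlgebraTensorModule.congr (LinearEquiv.refl (Localization.AtPrime P.asIdeal) _)
          (Submodule.quotEquivOfEq _ _ hr)).restrictScalars A)
      rw [isWeaklyRegular_cons_iff, isSMulRegular_fibreLocal_iff,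
        LinearEquiv.isWeaklyRegular_congr (R := C) (M := QuotSMulTop g (FibreLocal A P ⊗[C] M))
          (M₂ := FibreLocal A P ⊗[C] QuotSMulTop g M)
          (QuotSMulTop.tensorQuotSMulTopEquivQuotSMulTop g (FibreLocal A P) M).symm]
      constructor
      · rintro ⟨hM, hi, hreg⟩
        obtain ⟨h1, h2⟩ := injAt_and_flat_coker_of_injFib u P hM hi
        exact ⟨⟨hM, h1, h2⟩, hQ.mp h2, hreg⟩
      · rintro ⟨⟨hM, h1, h2⟩, -, hreg⟩
        exact ⟨hM, injFib_of_injAt u P h1 h2, hreg⟩
    rw [key]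
    exact (FlatCrit65.isOpen_flat_locus_module.inter (isOpen_injAt_flat_coker u)).inter (ih _)

variable (M : Type u) [AddCommGroup M] [Module C M]

omit [Algebra.FinitePresentation A C] in
/-- The fibre module at a point. -/
theorem weaklyRegular_fibreLocal_iff (P : PrimeSpectrum C) (gs : List C) :
    IsWeaklyRegular (FibreLocal A P ⊗[C] M) gs ↔
      IsWeaklyRegular ((Localization.AtPrime P.asIdeal ⊗[C] M) ⧸
        ((P.asIdeal.under A).map (algebraMap A (Localization.AtPrime P.asIdeal)) •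
          (⊤ : Submodule (Localization.AtPrime P.asIdeal) (Localization.AtPrime P.asIdeal ⊗[C] M)))) gs := by
  obtain ⟨τ, hτ, hker⟩ := exists_surjective_fibreLocal (A := A) P
  have h := weaklyRegular_quot_iff (R := Localization.AtPrime P.asIdeal) (T := FibreLocal A P) M τ hτ gs
  rw [show RingHom.ker τ = (P.asIdeal.under A).map (algebraMap A (Localization.AtPrime P.asIdeal)) from hker] at h
  exact h

end

attribute [local instance] Algebra.TensorProduct.rightAlgebra

open QC70 FlatMor68.FlatSections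

variable {X Y : Scheme.{u}} (f : X ⟶ Y) {F : X.Modules} {U : X.Opens} {V : Y.Opens}

theorem weaklyRegular_stalk_iff (e : U ≤ f ⁻¹ᵁ V) (hU : IsAffineOpen U) (hV : IsAffineOpen V)
    (hM : IsLocAt F U) {x : X} (hx : x ∈ U) (gs : List Γ(X, U)) :
    letI : Algebra Γ(Y, V) Γ(X, U) := (f.appLE V U e).hom.toAlgebra
    IsWeaklyRegular
        (↑(F.presheaf.stalk x) ⧸ (Ideal.map (f.stalkMap x).hom (IsLocalRing.maximalIdeal ↑(Y.presheaf.stalk (f x))) •
          (⊤ : Submodule ↑(X.presheaf.stalk x) ↑(F.presheaf.stalk x))))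
        (gs.map (X.presheaf.germ U x hx).hom) ↔
      IsWeaklyRegular (FibreLocal Γ(Y, V) (hU.primeIdealOf ⟨x, hx⟩) ⊗[Γ(X, U)] Γ(F, U)) gs := by
  letI : Algebra Γ(Y, V) Γ(X, U) := (f.appLE V U e).hom.toAlgebra
  letI : Module Γ(Y, V) Γ(F, U) := Module.compHom _ (f.appLE V U e).hom
  haveI : IsScalarTower Γ(Y, V) Γ(X, U) Γ(F, U) := IsScalarTower.of_algebraMap_smul fun _ _ => rfl
  let P := hU.primeIdealOf ⟨x, hx⟩
  let O := X.presheaf.stalk x
  let Cp := Localization.AtPrime P.asIdeal
  letI := stalkModule F hx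
  haveI := isLocalizedModule_germ hM hU hx
  letI : Module Γ(Y, V) (F.presheaf.stalk x) :=
    Module.compHom _ ((X.presheaf.germ U x hx).hom.comp (f.appLE V U e).hom)
  haveI : IsScalarTower Γ(Y, V) Γ(X, U) (F.presheaf.stalk x) := IsScalarTower.of_algebraMap_smul fun _ _ => rfl
  letI : Algebra Γ(X, U) O := (X.presheaf.germ U x hx).hom.toAlgebra
  letI : Algebra Γ(Y, V) O := ((X.presheaf.germ U x hx).hom.comp (f.appLE V U e).hom).toAlgebra
  haveI : IsScalarTower Γ(X, U) O (F.presheaf.stalk x) := IsScalarTower.of_algebraMap_smul fun _ _ => rfl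
  haveI : IsScalarTower Γ(Y, V) O (F.presheaf.stalk x) := IsScalarTower.of_algebraMap_smul fun _ _ => rfl
  let eM : Cp ⊗[Γ(X, U)] Γ(F, U) ≃ₗ[Γ(X, U)] F.presheaf.stalk x :=
    (LocalizedModule.equivTensorProduct P.asIdeal.primeCompl Γ(F, U)).symm.restrictScalars Γ(X, U) ≪≫ₗ
      IsLocalizedModule.iso P.asIdeal.primeCompl (germLinear F hx)
  have hJ : Ideal.map (f.stalkMap x).hom (IsLocalRing.maximalIdeal (Y.presheaf.stalk (f x))) =
      (P.asIdeal.under Γ(Y, V)).map (algebraMap Γ(Y, V) O) := by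
    letI : Algebra Γ(Y, V) (Y.presheaf.stalk (f x)) := (Y.presheaf.germ V (f x) (e hx)).hom.toAlgebra
    haveI : IsLocalization.AtPrime (Y.presheaf.stalk (f x)) (hV.primeIdealOf ⟨f x, e hx⟩).asIdeal :=
      hV.isLocalization_stalk ⟨f x, e hx⟩
    rw [← IsLocalization.AtPrime.map_eq_maximalIdeal (hV.primeIdealOf ⟨f x, e hx⟩).asIdeal
      (Y.presheaf.stalk (f x)), Ideal.map_map]
    congr 1
    · exact RingHom.ext fun a => stalkMap_germ_appLE f e hx a
    · exact (congrArg PrimeSpectrum.asIdeal (IsAffineOpen.comap_primeIdealOf_appLE V hV U hU e hx)).symm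
  rw [hJ, weaklyRegular_fibreLocal_iff]
  let p := P.asIdeal.under Γ(Y, V)
  let K := p.map (algebraMap Γ(Y, V) O) • (⊤ : Submodule O (F.presheaf.stalk x))
  let K' := p.map (algebraMap Γ(Y, V) Cp) • (⊤ : Submodule Cp (Cp ⊗[Γ(X, U)] Γ(F, U)))
  have hmap : (K'.restrictScalars Γ(X, U)).map eM.toLinearMap = K.restrictScalars Γ(X, U) := by
    have h : (p • (⊤ : Submodule Γ(Y, V) (Cp ⊗[Γ(X, U)] Γ(F, U)))).map (eM.restrictScalars Γ(Y, V)).toLinearMap = p • ⊤ := by
      rw [Submodule.map_smul'', Submodule.map_top, LinearMap.range_eq_top.mpr (eM.restrictScalars Γ(Y, V)).surjective]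
    ext w
    constructor
    · rintro ⟨z, hz, rfl⟩
      exact (mem_map_smul_iff (S := O) p _).mpr (h.le ⟨z, (mem_map_smul_iff (S := Cp) p z).mp hz, rfl⟩)
    · intro hw
      obtain ⟨z, hz, rfl⟩ := h.ge ((mem_map_smul_iff (S := O) p w).mp hw)
      exact ⟨z, (mem_map_smul_iff (S := Cp) p z).mpr hz, rfl⟩
  let E : ((Cp ⊗[Γ(X, U)] Γ(F, U)) ⧸ K') ≃ₗ[Γ(X, U)] (F.presheaf.stalk x ⧸ K) :=
    (Submodule.Quotient.restrictScalarsEquiv Γ(X, U) K').symm ≪≫ₗ Submodule.Quotient.equiv _ _ eM hmap ≪≫ₗ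
      Submodule.Quotient.restrictScalarsEquiv Γ(X, U) K
  exact (isWeaklyRegular_map_algebraMap_iff (S := O) (M := F.presheaf.stalk x ⧸ K) gs).trans
    (LinearEquiv.isWeaklyRegular_congr E gs).symm

/-- For a flat coherent module the locus where sections form a weakly regular sequence on the fibre is open. -/
theorem isOpen_weaklyRegular_stalk [IsLocallyNoetherian Y] [LocallyOfFiniteType f] (hF : Coh.IsCoh F)
    (hflat : FlatMod.IsFlatOver f F) (n : ℕ) (g : Fin n → Γ(X, ⊤)) :
    IsOpen {x : X |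
      IsWeaklyRegular
        (↑(F.presheaf.stalk x) ⧸ (Ideal.map (f.stalkMap x).hom (IsLocalRing.maximalIdeal ↑(Y.presheaf.stalk (f x))) •
          (⊤ : Submodule ↑(X.presheaf.stalk x) ↑(F.presheaf.stalk x))))
        (List.ofFn fun i => (X.presheaf.germ ⊤ x trivial) (g i))} := by
  haveI : F.IsQuasicoherent := hF.1
  haveI := hF.2
  rw [isOpen_iff_forall_mem_open]
  intro x hx
  obtain ⟨V, hV, hxV, -⟩ := exists_isAffineOpen_mem_and_subset (X := Y) (x := f x) (U := ⊤) trivial
  obtain ⟨U, hU, hxU, e⟩ := exists_isAffineOpen_mem_and_subset (X := X) (x := x) (U := f ⁻¹ᵁ V) hxV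
  letI : Algebra Γ(Y, V) Γ(X, U) := (f.appLE V U e).hom.toAlgebra
  letI : Module Γ(Y, V) Γ(F, U) := Module.compHom _ (f.appLE V U e).hom
  haveI : IsScalarTower Γ(Y, V) Γ(X, U) Γ(F, U) := IsScalarTower.of_algebraMap_smul fun _ _ => rfl
  haveI : IsNoetherianRing Γ(Y, V) := IsLocallyNoetherian.component_noetherian ⟨V, hV⟩
  haveI : Algebra.FiniteType Γ(Y, V) Γ(X, U) := f.finiteType_appLE hV hU e
  haveI : IsNoetherianRing Γ(X, U) := Algebra.FiniteType.isNoetherianRing Γ(Y, V) Γ(X, U)
  haveI : Algebra.FinitePresentation Γ(Y, V) Γ(X, U) := Algebra.FinitePresentation.of_finiteType.mp inferInstance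
  haveI := QC70.finite_sections_of_isFiniteType F hU
  haveI : Module.FinitePresentation Γ(X, U) Γ(F, U) := Module.finitePresentation_of_finite _ _
  let gs : List Γ(X, U) := List.ofFn fun i => (X.presheaf.map (homOfLE (show U ≤ ⊤ from le_top)).op) (g i)
  have hM := isLocAt_of_isQuasicoherent F hU
  have hflatP : ∀ (y : X) (hy : y ∈ U),
      Module.Flat Γ(Y, V) (Localization.AtPrime (hU.primeIdealOf ⟨y, hy⟩).asIdeal ⊗[Γ(X, U)] Γ(F, U)) :=
    fun y hy => (flat_localized_iff _ _).mpr ((Open62.isFlatOverAt_iff_localized f e hU hV hM hy).mp (hflat y))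
  have hlist : ∀ (y : X) (hy : y ∈ U), gs.map (X.presheaf.germ U y hy).hom =
      List.ofFn fun i => (X.presheaf.germ ⊤ y trivial) (g i) := fun y hy => by
    rw [List.map_ofFn]
    congr 1
    funext i
    exact X.presheaf.germ_res_apply (homOfLE le_top) y hy (g i)
  refine ⟨Subtype.val '' ((fun y : U => hU.primeIdealOf y) ⁻¹' {P : PrimeSpectrum Γ(X, U) |
    Module.Flat Γ(Y, V) (Localization.AtPrime P.asIdeal ⊗[Γ(X, U)] Γ(F, U)) ∧
      IsWeaklyRegular (FibreLocal Γ(Y, V) P ⊗[Γ(X, U)] Γ(F, U)) gs}), ?_, ?_, ?_⟩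
  · rintro _ ⟨⟨y, hy⟩, hq, rfl⟩
    show IsWeaklyRegular _ _
    rw [← hlist y hy, weaklyRegular_stalk_iff f e hU hV hM hy gs]
    exact hq.2
  · refine U.2.isOpenMap_subtype_val _ ((isOpen_weaklyRegular_fibre gs Γ(F, U)).preimage ?_)
    exact hU.isoSpec.hom.continuous
  · refine ⟨⟨x, hxU⟩, ⟨hflatP x hxU, ?_⟩, rfl⟩
    rw [← weaklyRegular_stalk_iff f e hU hV hM hxU gs, hlist x hxU]
    exact hx

end Groth.Agent.Fib62
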