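import Groth.Agent.Fib62.FlatExt
import Mathlib.RingTheory.LocalRing.ResidueField.Fiber

/-! Flatness on the fibre at a point, computed over any field over the point of the base. -/

set_option autoImplicit false
universe u

open TensorProduct

namespace Groth.Agent.Fib62

attribute [local instance] Algebra.TensorProduct.rightAlgebra

/-- Localized flatness transported along an equivalence. -/
theorem flat_localized_congr {D S : Type u} [CommRing D] [CommRing S] [Algebra D S] {N N' : Type u}
    [AddCommGroup N] [Module S N] [Module D N] [IsScalarTower D S N]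
    [AddCommGroup N'] [Module S N'] [Module D N'] [IsScalarTower D S N'] (e : N ≃ₗ[S] N')
    (Q : Ideal S) [Q.IsPrime] :
    Module.Flat D (LocalizedModule Q.primeCompl N) ↔ Module.Flat D (LocalizedModule Q.primeCompl N') :=
  Module.Flat.equiv_iff ((LocalizedModule.equivTensorProduct Q.primeCompl N ≪≫ₗ
    AlgebraTensorModule.congr (LinearEquiv.refl _ _) e ≪≫ₗ
    (LocalizedModule.equivTensorProduct Q.primeCompl N').symm).restrictScalars D)

section
variable {A B C : Type u} [CommRing A] [CommRing B] [CommRing C] [Algebra A B] [Algebra B C] [Algebra A C]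
  [IsScalarTower A B C] (M : Type u) [AddCommGroup M] [Module C M]

/-- The fibre of `B → C` at a prime of `A` as an algebra. -/
@[implicit_reducible]
noncomputable def fibreAlgebra (p : Ideal A) [p.IsPrime] : Algebra (p.Fiber B) (p.Fiber C) :=
  (Algebra.TensorProduct.map (AlgHom.id p.ResidueField p.ResidueField)
    (IsScalarTower.toAlgHom A B C)).toRingHom.toAlgebra

/-- The point of the fibre over a prime. -/
noncomputable def fibrePoint (P : PrimeSpectrum C) : PrimeSpectrum ((P.asIdeal.under A).Fiber C) :=
  PrimeSpectrum.preimageEquivFiber A C ⟨P.asIdeal.under A, inferInstance⟩ ⟨P, rfl⟩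

variable (A B) in
/-- The fibre module is flat over the fibre of `B` at `P`. -/
def GoodAt (P : PrimeSpectrum C) : Prop :=
  letI := fibreAlgebra (B := B) (C := C) (P.asIdeal.under A)
  Module.Flat ((P.asIdeal.under A).Fiber B)
    (LocalizedModule (fibrePoint (A := A) P).asIdeal.primeCompl ((P.asIdeal.under A).Fiber C ⊗[C] M))

/-- `GoodAt` is computed over any field. -/
theorem goodAt_iff (k : Type u) [Field k] [Algebra A k] (D S : Type u) [CommRing D] [CommRing S]
    [Algebra k D] [Algebra B D] [Algebra A D] [IsScalarTower A k D] [IsScalarTower A B D]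
    [Algebra k S] [Algebra C S] [Algebra A S] [IsScalarTower A k S] [IsScalarTower A C S]
    [Algebra D S] [Algebra B S] [IsScalarTower k D S] [IsScalarTower B D S] [IsScalarTower B C S]
    [Algebra.IsPushout A k B D] [Algebra.IsPushout A k C S]
    (Q : Ideal S) [Q.IsPrime] (P : PrimeSpectrum C) (hQ : Q.comap (algebraMap C S) = P.asIdeal) :
    GoodAt A B M P ↔ Module.Flat D (LocalizedModule Q.primeCompl (S ⊗[C] M)) := by
  let p := P.asIdeal.under A
  let κ := p.ResidueField
  let D₀ := p.Fiber B
  let S₀ := p.Fiber C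
  letI : Algebra D₀ S₀ := fibreAlgebra p
  have hp : ∀ a : A, a ∈ p ↔ algebraMap A k a = 0 := by
    intro a
    show algebraMap A C a ∈ P.asIdeal ↔ _
    rw [← hQ, Ideal.mem_comap, ← IsScalarTower.algebraMap_apply, IsScalarTower.algebraMap_apply A k S]
    constructor
    · intro h
      by_contra h0
      exact (inferInstance : Q.IsPrime).ne_top (Ideal.eq_top_of_isUnit_mem Q h ((Ne.isUnit h0).map _))
    · intro h
      rw [h, map_zero]
      exact zero_mem Q
  let ι : κ →ₐ[A] k := Ideal.ResidueField.liftₐ p (Algebra.ofId A k)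
    (fun a ha => (hp a).mp ha) (fun a ha => Ne.isUnit fun h => ha ((hp a).mpr h))
  letI : Algebra κ k := ι.toRingHom.toAlgebra
  have : IsScalarTower A κ k := IsScalarTower.of_algebraMap_eq (R := A) (S := κ) (A := k) fun a => (ι.commutes a).symm
  let φ : D₀ →ₐ[A] D := Algebra.TensorProduct.lift ((IsScalarTower.toAlgHom A k D).comp ι)
    (IsScalarTower.toAlgHom A B D) fun _ _ => .all _ _
  let ψ : S₀ →ₐ[A] S := Algebra.TensorProduct.lift ((IsScalarTower.toAlgHom A k S).comp ι)
    (IsScalarTower.toAlgHom A C S) fun _ _ => .all _ _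
  letI : Algebra D₀ D := φ.toRingHom.toAlgebra
  letI : Algebra S₀ S := ψ.toRingHom.toAlgebra
  letI : Algebra D₀ S := ((algebraMap D S).comp φ.toRingHom).toAlgebra
  letI : Algebra κ D := ((algebraMap k D).comp (algebraMap κ k)).toAlgebra
  letI : Algebra κ S := ((algebraMap k S).comp (algebraMap κ k)).toAlgebra
  have : IsScalarTower κ k D := IsScalarTower.of_algebraMap_eq (R := κ) (S := k) (A := D) fun _ => rfl
  have : IsScalarTower κ k S := IsScalarTower.of_algebraMap_eq (R := κ) (S := k) (A := S) fun _ => rfl
  have hφB : ∀ b : B, φ (1 ⊗ₜ[A] b) = algebraMap B D b := fun b => by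
    show Algebra.TensorProduct.lift _ _ _ ((1 : κ) ⊗ₜ[A] b) = _
    rw [Algebra.TensorProduct.lift_tmul, map_one, one_mul]
    rfl
  have hψC : ∀ c : C, ψ (1 ⊗ₜ[A] c) = algebraMap C S c := fun c => by
    show Algebra.TensorProduct.lift _ _ _ ((1 : κ) ⊗ₜ[A] c) = _
    rw [Algebra.TensorProduct.lift_tmul, map_one, one_mul]
    rfl
  have : IsScalarTower κ D₀ D := IsScalarTower.of_algebraMap_eq (R := κ) (S := D₀) (A := D) fun x => by
    show _ = Algebra.TensorProduct.lift _ _ _ (x ⊗ₜ[A] (1 : B))
    rw [Algebra.TensorProduct.lift_tmul, map_one, mul_one]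
    rfl
  have : IsScalarTower κ S₀ S := IsScalarTower.of_algebraMap_eq (R := κ) (S := S₀) (A := S) fun x => by
    show _ = Algebra.TensorProduct.lift _ _ _ (x ⊗ₜ[A] (1 : C))
    rw [Algebra.TensorProduct.lift_tmul, map_one, mul_one]
    rfl
  have : IsScalarTower κ D₀ S₀ := IsScalarTower.of_algebraMap_eq (R := κ) (S := D₀) (A := S₀) fun x => by
    show (x ⊗ₜ[A] (1 : C)) = Algebra.TensorProduct.map _ _ (x ⊗ₜ[A] (1 : B))
    simp
    rfl
  have : IsScalarTower B D₀ D := IsScalarTower.of_algebraMap_eq (R := B) (S := D₀) (A := D) fun b => (hφB b).symm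
  have : IsScalarTower C S₀ S := IsScalarTower.of_algebraMap_eq (R := C) (S := S₀) (A := S) fun c => (hψC c).symm
  have : IsScalarTower D₀ D S := IsScalarTower.of_algebraMap_eq (R := D₀) (S := D) (A := S) fun _ => rfl
  have : IsScalarTower A κ D := IsScalarTower.of_algebraMap_eq (R := A) (S := κ) (A := D) fun a => by
    show _ = algebraMap k D (algebraMap κ k (algebraMap A κ a))
    rw [← IsScalarTower.algebraMap_apply A κ k, ← IsScalarTower.algebraMap_apply]
  have : IsScalarTower A κ S := IsScalarTower.of_algebraMap_eq (R := A) (S := κ) (A := S) fun a => by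
    show _ = algebraMap k S (algebraMap κ k (algebraMap A κ a))
    rw [← IsScalarTower.algebraMap_apply A κ k, ← IsScalarTower.algebraMap_apply]
  have : IsScalarTower A D₀ D := IsScalarTower.of_algebraMap_eq (R := A) (S := D₀) (A := D) fun a => (φ.commutes a).symm
  have : IsScalarTower A S₀ S := IsScalarTower.of_algebraMap_eq (R := A) (S := S₀) (A := S) fun a => (ψ.commutes a).symm
  have : IsScalarTower D₀ S₀ S := IsScalarTower.of_algebraMap_eq (R := D₀) (S := S₀) (A := S) fun x => by
    show algebraMap D S (φ x) = ψ (Algebra.TensorProduct.map _ _ x)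
    induction x using TensorProduct.induction_on with
    | zero => simp only [map_zero]
    | add x y hx hy => simp only [map_add, hx, hy]
    | tmul x b =>
      show algebraMap D S (Algebra.TensorProduct.lift _ _ _ (x ⊗ₜ[A] b)) =
        Algebra.TensorProduct.lift _ _ _ (x ⊗ₜ[A] algebraMap B C b)
      rw [Algebra.TensorProduct.lift_tmul, Algebra.TensorProduct.lift_tmul, map_mul]
      show algebraMap D S (algebraMap k D (ι x)) * algebraMap D S (algebraMap B D b) =
        algebraMap k S (ι x) * algebraMap C S (algebraMap B C b)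
      rw [← IsScalarTower.algebraMap_apply k D S, ← IsScalarTower.algebraMap_apply B D S,
        ← IsScalarTower.algebraMap_apply B C S]
  have : IsScalarTower κ D S := IsScalarTower.to₁₃₄ κ k D S
  have hD : Algebra.IsPushout κ k D₀ D :=
    (Algebra.IsPushout.comp_iff A κ B (S' := D₀) (T' := D)).mp inferInstance
  have hS : Algebra.IsPushout κ k S₀ S :=
    (Algebra.IsPushout.comp_iff A κ C (S' := S₀) (T' := S)).mp inferInstance
  have : Algebra.IsPushout κ D₀ k D := hD.symm
  have : Algebra.IsPushout κ S₀ k S := hS.symm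
  have : Algebra.IsPushout D₀ D S₀ S :=
    Algebra.IsPushout.symm ((Algebra.IsPushout.comp_iff κ D₀ k (S' := D) (T := S₀) (T' := S)).mp inferInstance)
  have : Module.Flat D₀ D := Module.Flat.of_linearEquiv
    (Algebra.IsPushout.out (R := κ) (S := D₀) (R' := k) (S' := D)).equiv.symm
  let Q₀ := fibrePoint (A := A) P
  have hunder : Q.comap (algebraMap S₀ S) = Q₀.asIdeal := by
    have key := (PrimeSpectrum.preimageEquivFiber A C ⟨p, inferInstance⟩).symm_apply_eq
      (x := ⟨Q.comap (algebraMap S₀ S), inferInstance⟩) (y := ⟨P, rfl⟩)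
    refine congrArg PrimeSpectrum.asIdeal (key.mp (Subtype.ext (PrimeSpectrum.ext ?_)))
    show (Q.comap (algebraMap S₀ S)).comap _ = P.asIdeal
    rw [Ideal.comap_comap]
    exact (congrArg (Ideal.comap · Q) (RingHom.ext hψC)).trans hQ
  have : Q.LiesOver Q₀.asIdeal := ⟨hunder.symm⟩
  have h1 := flat_localized_baseChange_iff (D := D₀) (D' := D) (S := S₀) (S' := S) (S₀ ⊗[C] M) Q₀.asIdeal Q
  show Module.Flat D₀ (LocalizedModule Q₀.asIdeal.primeCompl (S₀ ⊗[C] M)) ↔ _
  rw [h1]
  exact flat_localized_congr (AlgebraTensorModule.cancelBaseChange C S₀ S S M) Q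

variable {A' B' C' : Type u} [CommRing A'] [CommRing B'] [CommRing C']
    [Algebra A A'] [Algebra A' B'] [Algebra B B'] [Algebra A B'] [IsScalarTower A A' B'] [IsScalarTower A B B']
    [Algebra A' C'] [Algebra C C'] [Algebra A C'] [IsScalarTower A A' C'] [IsScalarTower A C C']
    [Algebra B' C'] [IsScalarTower A' B' C'] [Algebra B C'] [IsScalarTower B B' C'] [IsScalarTower B C C']
    [Algebra.IsPushout A A' B B'] [Algebra.IsPushout A A' C C']

theorem goodAt_baseChange_of (k : Type u) [Field k] [Algebra A' k] (D S : Type u) [CommRing D] [CommRing S]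
    [Algebra k D] [Algebra B' D] [Algebra A' D] [IsScalarTower A' k D] [IsScalarTower A' B' D]
    [Algebra k S] [Algebra C' S] [Algebra A' S] [IsScalarTower A' k S] [IsScalarTower A' C' S]
    [Algebra D S] [Algebra B' S] [IsScalarTower k D S] [IsScalarTower B' D S] [IsScalarTower B' C' S]
    [Algebra.IsPushout A' k B' D] [Algebra.IsPushout A' k C' S]
    (Q : Ideal S) [Q.IsPrime] (P' : PrimeSpectrum C') (hQ : Q.comap (algebraMap C' S) = P'.asIdeal) :
    GoodAt A' B' (C' ⊗[C] M) P' ↔ GoodAt A B M (PrimeSpectrum.comap (algebraMap C C') P') := by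
  letI : Algebra A k := ((algebraMap A' k).comp (algebraMap A A')).toAlgebra
  letI : Algebra B D := ((algebraMap B' D).comp (algebraMap B B')).toAlgebra
  letI : Algebra C S := ((algebraMap C' S).comp (algebraMap C C')).toAlgebra
  letI : Algebra B S := ((algebraMap B' S).comp (algebraMap B B')).toAlgebra
  letI : Algebra A D := ((algebraMap A' D).comp (algebraMap A A')).toAlgebra
  letI : Algebra A S := ((algebraMap A' S).comp (algebraMap A A')).toAlgebra
  have : IsScalarTower A A' k := .of_algebraMap_eq fun _ => rfl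
  have : IsScalarTower A A' D := .of_algebraMap_eq fun _ => rfl
  have : IsScalarTower A A' S := .of_algebraMap_eq fun _ => rfl
  have : IsScalarTower B B' D := .of_algebraMap_eq fun _ => rfl
  have : IsScalarTower C C' S := .of_algebraMap_eq fun _ => rfl
  have : IsScalarTower A k D := IsScalarTower.to₁₃₄ A A' k D
  have : IsScalarTower A k S := IsScalarTower.to₁₃₄ A A' k S
  have : IsScalarTower A B D := .of_algebraMap_eq fun a => by
    show _ = algebraMap B' D (algebraMap B B' (algebraMap A B a))
    rw [← IsScalarTower.algebraMap_apply A B B', IsScalarTower.algebraMap_apply A A' B',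
      ← IsScalarTower.algebraMap_apply A' B' D, ← IsScalarTower.algebraMap_apply]
  have : IsScalarTower A C S := .of_algebraMap_eq fun a => by
    show _ = algebraMap C' S (algebraMap C C' (algebraMap A C a))
    rw [← IsScalarTower.algebraMap_apply A C C', IsScalarTower.algebraMap_apply A A' C',
      ← IsScalarTower.algebraMap_apply A' C' S, ← IsScalarTower.algebraMap_apply]
  have : IsScalarTower B D S := .of_algebraMap_eq fun b => by
    show algebraMap B' S (algebraMap B B' b) = algebraMap D S (algebraMap B' D (algebraMap B B' b))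
    rw [← IsScalarTower.algebraMap_apply B' D S]
  have : IsScalarTower B C S := .of_algebraMap_eq fun b => by
    show algebraMap B' S (algebraMap B B' b) = algebraMap C' S (algebraMap C C' (algebraMap B C b))
    rw [IsScalarTower.algebraMap_apply B' C' S, ← IsScalarTower.algebraMap_apply B C C',
      ← IsScalarTower.algebraMap_apply B B' C']
  have : IsScalarTower A B' D := IsScalarTower.to₁₃₄ A A' B' D
  have : IsScalarTower A C' S := IsScalarTower.to₁₃₄ A A' C' S
  have : Algebra.IsPushout A k B D := (Algebra.IsPushout.comp_iff A A' B (S' := B') (T' := D)).mpr inferInstance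
  have : Algebra.IsPushout A k C S := (Algebra.IsPushout.comp_iff A A' C (S' := C') (T' := S)).mpr inferInstance
  rw [goodAt_iff (A := A) (B := B) M k D S Q (PrimeSpectrum.comap (algebraMap C C') P') (by
    show Q.comap ((algebraMap C' S).comp (algebraMap C C')) = _
    rw [← Ideal.comap_comap, hQ]
    rfl), goodAt_iff (A := A') (B := B') (C' ⊗[C] M) k D S Q P' hQ]
  exact flat_localized_congr (AlgebraTensorModule.cancelBaseChange C C' S S M) Q

/-- `GoodAt` commutes with base change. -/
theorem goodAt_baseChange (P' : PrimeSpectrum C') :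
    GoodAt A' B' (C' ⊗[C] M) P' ↔ GoodAt A B M (PrimeSpectrum.comap (algebraMap C C') P') := by
  let p' := P'.asIdeal.under A'
  letI : Algebra (p'.Fiber B') (p'.Fiber C') := fibreAlgebra p'
  letI : Algebra B' (p'.Fiber C') :=
    ((algebraMap C' (p'.Fiber C')).comp (algebraMap B' C')).toAlgebra
  have : IsScalarTower B' C' (p'.Fiber C') :=
    IsScalarTower.of_algebraMap_eq (R := B') (S := C') (A := p'.Fiber C') fun _ => rfl
  have : IsScalarTower p'.ResidueField (p'.Fiber B') (p'.Fiber C') :=
    IsScalarTower.of_algebraMap_eq (R := p'.ResidueField) (S := p'.Fiber B') (A := p'.Fiber C') fun x => by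
      show (x ⊗ₜ[A'] (1 : C')) = Algebra.TensorProduct.map _ _ (x ⊗ₜ[A'] (1 : B'))
      simp
  have : IsScalarTower B' (p'.Fiber B') (p'.Fiber C') :=
    IsScalarTower.of_algebraMap_eq (R := B') (S := p'.Fiber B') (A := p'.Fiber C') fun b => by
      show (1 : p'.ResidueField) ⊗ₜ[A'] algebraMap B' C' b = Algebra.TensorProduct.map _ _ ((1 : p'.ResidueField) ⊗ₜ[A'] b)
      simp
  exact goodAt_baseChange_of (A := A) (B := B) M p'.ResidueField (p'.Fiber B') (p'.Fiber C')
    (fibrePoint (A := A') P').asIdeal P'
    (congrArg (fun x => PrimeSpectrum.asIdeal x.1)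
      ((PrimeSpectrum.preimageEquivFiber A' C' ⟨p', inferInstance⟩).symm_apply_apply ⟨P', rfl⟩))

end

end Groth.Agent.Fib62
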