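import Groth.Agent.Stage62.ModuleModel
import Groth.Agent.Stage62.Flat
import Groth.Agent.FlatMor68.Pinch
import Mathlib.RingTheory.IsTensorProduct
import Mathlib.RingTheory.FinitePresentation

/-! Linear maps of finitely presented modules come from a Noetherian stage. -/

set_option autoImplicit false
universe u

open TensorProduct

namespace Groth.Agent.Fib62

section
variable {A₀ A B₀ B : Type u} [CommRing A₀] [CommRing A] [CommRing B₀] [CommRing B] [Algebra A₀ A]
  [Algebra A₀ B₀] [Algebra A B] (e : A ⊗[A₀] B₀ ≃ₐ[A] B) {m : ℕ} {κ : Type u} (l : κ → Fin m → B₀)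

theorem quotEquiv_one_tmul (x : Fin m → B₀) :
    Stage62.quotEquiv e l (1 ⊗ₜ Submodule.Quotient.mk x) = Submodule.Quotient.mk (Stage62.coord e x) := by
  simp only [Stage62.quotEquiv, LinearEquiv.trans_apply]
  have : (Function.Exact.linearEquivOfSurjective
      (f := ((Submodule.span B₀ (Set.range l)).restrictScalars A₀).subtype.baseChange A)
      (g := ((Submodule.span B₀ (Set.range l)).restrictScalars A₀).mkQ.baseChange A)
      (lTensor_exact A (LinearMap.exact_subtype_mkQ _) (Submodule.mkQ_surjective _))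
      (LinearMap.lTensor_surjective A (Submodule.mkQ_surjective _))).symm ((1 : A) ⊗ₜ Submodule.Quotient.mk x) =
      Submodule.Quotient.mk ((1 : A) ⊗ₜ x) := by
    rw [LinearEquiv.symm_apply_eq]; rfl
  erw [this]
  simp [Stage62.coordEquiv_tmul]

end

attribute [local instance] Algebra.TensorProduct.rightAlgebra in
theorem isPushout_of_algEquiv {R₀ R S₀ S : Type u} [CommRing R₀] [CommRing R] [CommRing S₀] [CommRing S]
    [Algebra R₀ R] [Algebra R₀ S₀] [Algebra R S] [Algebra R₀ S] [Algebra S₀ S] [IsScalarTower R₀ R S]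
    [IsScalarTower R₀ S₀ S] (e : R ⊗[R₀] S₀ ≃ₐ[R] S) (he : ∀ x, algebraMap S₀ S x = e (1 ⊗ₜ x)) :
    Algebra.IsPushout R₀ R S₀ S :=
  Algebra.IsPushout.of_equiv e (RingHom.ext fun x => (he x).symm)

section
variable {D A C₁ C : Type u} [CommRing D] [CommRing A] [CommRing C₁] [CommRing C] [Algebra D A]
  [Algebra D C₁] [Algebra D C] [Algebra A C] [Algebra C₁ C] [IsScalarTower D A C] [IsScalarTower D C₁ C]
  [Algebra.IsPushout D A C₁ C]
  {I M : Type u} [AddCommGroup I] [Module C₁ I] [Module D I] [IsScalarTower D C₁ I]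
  [AddCommGroup M] [Module C₁ M] [Module D M] [IsScalarTower D C₁ M]

include D A

theorem cancelBaseChange_lTensor (v : I →ₗ[C₁] M) (z : C ⊗[C₁] I) :
    Algebra.IsPushout.cancelBaseChange D A C₁ C M (v.lTensor C z) =
      (v.restrictScalars D).lTensor A (Algebra.IsPushout.cancelBaseChange D A C₁ C I z) := by
  obtain ⟨w, rfl⟩ := (Algebra.IsPushout.cancelBaseChange D A C₁ C I).symm.surjective z
  rw [LinearEquiv.apply_symm_apply]
  induction w using TensorProduct.induction_on with
  | zero => simp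
  | add a b ha hb => simp only [map_add, ha, hb]
  | tmul a i =>
    rw [Algebra.IsPushout.cancelBaseChange_symm_tmul D A C₁ C I, LinearMap.lTensor_tmul, LinearMap.lTensor_tmul,
      ← Algebra.IsPushout.cancelBaseChange_symm_tmul D A C₁ C M, LinearEquiv.apply_symm_apply]
    rfl

theorem injective_lTensor_of_exact (v : I →ₗ[C₁] M) (hv : Function.Injective v) (N : Type u) [AddCommGroup N]
    [Module C₁ N] [Module D N] [IsScalarTower D C₁ N] (hflat : Module.Flat D N) (d : M →ₗ[C₁] N)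
    (hex : Function.Exact v d) (hd : Function.Surjective d) :
    Function.Injective ((v.restrictScalars D).lTensor A) :=
  FlatMor68.Pinch.lTensor_injective_of_flat_quotient (v.restrictScalars D) (d.restrictScalars D) hv hd hex

/-- A map with flat cokernel stays injective after base change. -/
theorem injective_lTensor_of_pushout (v : I →ₗ[C₁] M) (hv : Function.Injective v)
    (hflat : Module.Flat D (M ⧸ LinearMap.range v)) : Function.Injective (v.lTensor C) := by
  have h : Function.Injective ((v.restrictScalars D).lTensor A) :=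
    injective_lTensor_of_exact v hv _ hflat (LinearMap.range v).mkQ (LinearMap.exact_map_mkQ_range v)
      (Submodule.mkQ_surjective _)
  intro x y hxy
  apply (Algebra.IsPushout.cancelBaseChange D A C₁ C I).injective
  apply h
  rw [← cancelBaseChange_lTensor, ← cancelBaseChange_lTensor, hxy]

/-- With flat cokernel the kernel of the base change is generated by the kernel. -/
theorem ker_baseChange_le {N : Type u} [AddCommGroup N] [Module C₁ N] [Module D N] [IsScalarTower D C₁ N]
    (v : N →ₗ[C₁] M) (hflat : Module.Flat D (M ⧸ LinearMap.range v)) :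
    LinearMap.ker (v.baseChange C) ≤ LinearMap.range ((LinearMap.ker v).subtype.baseChange C) := by
  intro x hx
  have h1 : v = (LinearMap.range v).subtype.comp v.rangeRestrict := rfl
  have hinj : Function.Injective ((LinearMap.range v).subtype.lTensor C) :=
    injective_lTensor_of_pushout (D := D) (A := A) _ (Submodule.injective_subtype _) (by rwa [Submodule.range_subtype])
  have hex : Function.Exact ((LinearMap.ker v).subtype.lTensor C) (v.rangeRestrict.lTensor C) :=
    lTensor_exact C (fun z => by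
      simp [LinearMap.rangeRestrict, LinearMap.codRestrict, Subtype.ext_iff]) v.surjective_rangeRestrict
  obtain ⟨y, hy⟩ := (hex x).mp (hinj (by
    rw [map_zero, ← LinearMap.lTensor_comp_apply, ← h1]
    exact hx))
  exact ⟨y, hy⟩

end

/-- A map of finitely presented modules comes from a Noetherian subring. -/
theorem exists_pres_model {A C N M : Type u} [CommRing A] [CommRing C] [Algebra A C]
    [Algebra.FinitePresentation A C] [AddCommGroup N] [Module C N] [Module.FinitePresentation C N]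
    [AddCommGroup M] [Module C M] [Module.FinitePresentation C M] (u : N →ₗ[C] M) :
    ∃ (A₀ : Subalgebra ℤ A) (C₀ : Type u) (_ : CommRing C₀) (_ : Algebra A₀ C₀) (_ : Algebra C₀ C)
      (_ : IsScalarTower A₀ C₀ C) (_ : Algebra.IsPushout A₀ A C₀ C)
      (N₀ M₀ : Type u) (_ : AddCommGroup N₀) (_ : Module C₀ N₀) (_ : Module A₀ N₀) (_ : IsScalarTower A₀ C₀ N₀)
      (_ : AddCommGroup M₀) (_ : Module C₀ M₀) (_ : Module A₀ M₀) (_ : IsScalarTower A₀ C₀ M₀)
      (u₀ : N₀ →ₗ[C₀] M₀) (eN : C ⊗[C₀] N₀ ≃ₗ[C] N) (eM : C ⊗[C₀] M₀ ≃ₗ[C] M),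
      IsNoetherianRing A₀ ∧ Algebra.FiniteType A₀ C₀ ∧ Module.Finite C₀ N₀ ∧ Module.Finite C₀ M₀ ∧
        ∀ z, eM (u₀.baseChange C z) = u (eN z) := by
  classical
  obtain ⟨n, πN, hπN⟩ := Module.Finite.exists_fin' C N
  obtain ⟨wN, hwN⟩ := (Module.FinitePresentation.fg_ker πN hπN : (LinearMap.ker πN).FG)
  obtain ⟨m, πM, hπM⟩ := Module.Finite.exists_fin' C M
  obtain ⟨wM, hwM⟩ := (Module.FinitePresentation.fg_ker πM hπM : (LinearMap.ker πM).FG)
  choose U hU using fun j : Fin n => hπM (u (πN (Pi.single j 1)))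
  let t : Set C := (⋃ v ∈ (wN : Set (Fin n → C)), Set.range v) ∪ (⋃ v ∈ (wM : Set (Fin m → C)), Set.range v) ∪
    ⋃ j, Set.range (U j)
  have ht : t.Finite := ((wN.finite_toSet.biUnion fun v _ => Set.finite_range v).union
    (wM.finite_toSet.biUnion fun v _ => Set.finite_range v)).union (Set.finite_iUnion fun j => Set.finite_range _)
  obtain ⟨A₀, C₀, _, _, e, hN, hC₀, hsub⟩ := Cons62.exists_model (A := A) (B := C) ht
  let γ : C₀ →+* C := e.toRingHom.comp Algebra.TensorProduct.includeRight.toRingHom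
  letI : Algebra C₀ C := γ.toAlgebra
  let e0 : C ⊗[C₀] C₀ ≃ₐ[C] C := Algebra.TensorProduct.rid C₀ C C
  have hcoord : ∀ {k : ℕ} (x : Fin k → C₀), Stage62.coord e0 x = fun i => γ (x i) := fun x => funext fun i => by
    show Algebra.TensorProduct.rid C₀ C C ((1 : C) ⊗ₜ x i) = _
    rw [Algebra.TensorProduct.rid_tmul, Algebra.smul_def, mul_one]
    rfl
  choose lN hlN using fun (v : ↥(wN : Set (Fin n → C))) (i : Fin n) =>
    hsub (Or.inl (Or.inl (Set.mem_biUnion v.2 ⟨i, rfl⟩)))
  choose lM hlM using fun (v : ↥(wM : Set (Fin m → C))) (i : Fin m) =>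
    hsub (Or.inl (Or.inr (Set.mem_biUnion v.2 ⟨i, rfl⟩)))
  choose lU hlU using fun (j : Fin n) (i : Fin m) => hsub (Or.inr (Set.mem_iUnion.mpr ⟨j, i, rfl⟩))
  let U₀ : (Fin n → C₀) →ₗ[C₀] (Fin m → C₀) := Fintype.linearCombination C₀ lU
  have hU₀ : ∀ x, πM (Stage62.coord e0 (U₀ x)) = u (πN (Stage62.coord e0 x)) := by
    intro x
    have h1 : Stage62.coord e0 (U₀ x) = ∑ j, γ (x j) • U j := by
      funext i
      rw [hcoord, Finset.sum_apply]
      show γ ((∑ j, x j • lU j) i) = _
      rw [Finset.sum_apply, map_sum]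
      refine Finset.sum_congr rfl fun j _ => ?_
      show γ (x j * lU j i) = γ (x j) * U j i
      rw [map_mul, show γ (lU j i) = U j i from hlU j i]
    have h2 : Stage62.coord e0 x = ∑ j, γ (x j) • (Pi.single j 1 : Fin n → C) := by
      funext i
      rw [hcoord, Finset.sum_apply]
      simp [Pi.single_apply]
    rw [h1, h2, map_sum, map_sum, map_sum]
    exact Finset.sum_congr rfl fun j _ => by rw [map_smul, map_smul, map_smul, hU]
  let l : ↥(wM : Set (Fin m → C)) ⊕ ↥(wN : Set (Fin n → C)) → (Fin m → C₀) := Sum.elim lM fun v => U₀ (lN v)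
  have hspanN : Submodule.span C (Set.range fun v => Stage62.coord e0 (lN v)) = LinearMap.ker πN := by
    rw [← hwN]
    congr 1
    have : (fun v => Stage62.coord e0 (lN v)) = fun v => v.1 := funext fun v => (hcoord _).trans (funext (hlN v))
    rw [this, Subtype.range_coe]
  have hspanM : Submodule.span C (Set.range fun v => Stage62.coord e0 (l v)) = LinearMap.ker πM := by
    refine le_antisymm (Submodule.span_le.mpr ?_) (hwM ▸ Submodule.span_mono fun v hv => ?_)
    · rintro _ ⟨v | v, rfl⟩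
      · rw [SetLike.mem_coe, ← hwM]
        refine Submodule.subset_span ?_
        have : Stage62.coord e0 (l (Sum.inl v)) = v.1 := (hcoord _).trans (funext (hlM v))
        show Stage62.coord e0 (l (Sum.inl v)) ∈ _
        rw [this]; exact v.2
      · show πM (Stage62.coord e0 (U₀ (lN v))) = 0
        rw [hU₀, show Stage62.coord e0 (lN v) = v.1 from (hcoord _).trans (funext (hlN v)),
          show πN v.1 = 0 from LinearMap.mem_ker.mp (hwN ▸ Submodule.subset_span v.2), map_zero]
    · exact ⟨Sum.inl ⟨v, hv⟩, (hcoord _).trans (funext (hlM ⟨v, hv⟩))⟩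
  let KN := Submodule.span C₀ (Set.range lN)
  let KM := Submodule.span C₀ (Set.range l)
  have hK : KN ≤ KM.comap U₀ := Submodule.span_le.mpr (by
    rintro _ ⟨v, rfl⟩
    exact Submodule.subset_span ⟨Sum.inr v, rfl⟩)
  let u₀ : ((Fin n → C₀) ⧸ KN) →ₗ[C₀] ((Fin m → C₀) ⧸ KM) := KN.mapQ KM U₀ hK
  let eN₀ : C ⊗[C₀] ((Fin n → C₀) ⧸ KN) ≃ₗ[C] N :=
    Stage62.quotEquiv e0 lN ≪≫ₗ Submodule.quotEquivOfEq _ _ hspanN ≪≫ₗ πN.quotKerEquivOfSurjective hπN
  let eM₀ : C ⊗[C₀] ((Fin m → C₀) ⧸ KM) ≃ₗ[C] M :=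
    Stage62.quotEquiv e0 l ≪≫ₗ Submodule.quotEquivOfEq _ _ hspanM ≪≫ₗ πM.quotKerEquivOfSurjective hπM
  have hcomm : ∀ z, eM₀ (u₀.baseChange C z) = u (eN₀ z) := by
    intro z
    induction z using TensorProduct.induction_on with
    | zero => simp
    | add a b ha hb => simp only [map_add, ha, hb]
    | tmul c x =>
      obtain ⟨x, rfl⟩ := Submodule.Quotient.mk_surjective KN x
      rw [show c ⊗ₜ[C₀] Submodule.Quotient.mk (p := KN) x = c • ((1 : C) ⊗ₜ[C₀] Submodule.Quotient.mk x) by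
        rw [TensorProduct.smul_tmul', smul_eq_mul, mul_one]]
      simp only [map_smul]
      congr 1
      rw [LinearMap.baseChange_tmul]
      show eM₀ ((1 : C) ⊗ₜ Submodule.Quotient.mk (U₀ x)) = _
      have a1 := congrArg (fun y => πM.quotKerEquivOfSurjective hπM (Submodule.quotEquivOfEq _ _ hspanM y))
        (quotEquiv_one_tmul e0 l (U₀ x))
      have a2 := congrArg (fun y => πN.quotKerEquivOfSurjective hπN (Submodule.quotEquivOfEq _ _ hspanN y))
        (quotEquiv_one_tmul e0 lN x)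
      exact a1.trans ((hU₀ x).trans (congrArg u a2.symm))
  have : Algebra.FiniteType A₀ C₀ := inferInstance
  have hγ : IsScalarTower A₀ C₀ C := IsScalarTower.of_algebraMap_eq (R := A₀) (S := C₀) (A := C) fun a => by
    show _ = e (1 ⊗ₜ algebraMap A₀ C₀ a)
    rw [show (1 : A) ⊗ₜ[A₀] algebraMap A₀ C₀ a = algebraMap A (A ⊗[A₀] C₀) (algebraMap A₀ A a) by
      rw [Algebra.TensorProduct.algebraMap_apply, Algebra.algebraMap_self_apply, Algebra.algebraMap_eq_smul_one,
        ← smul_tmul, Algebra.smul_def, mul_one], AlgEquiv.commutes, ← IsScalarTower.algebraMap_apply]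
  have hpo₀ : Algebra.IsPushout A₀ A C₀ C := isPushout_of_algEquiv e fun _ => rfl
  exact ⟨A₀, C₀, inferInstance, inferInstance, inferInstance, hγ, hpo₀, _, _, inferInstance, inferInstance,
    inferInstance, inferInstance, inferInstance, inferInstance, inferInstance, inferInstance, u₀, eN₀, eM₀,
    hN, inferInstance, inferInstance, inferInstance, hcomm⟩

set_option maxHeartbeats 1000000 in
/-- A map of finitely presented modules is the base change of a map over a Noetherian stage, with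
flatness of the target or of the cokernel descended. -/
theorem exists_map_model {A C N M : Type u} [CommRing A] [CommRing C] [Algebra A C]
    [Algebra.FinitePresentation A C] [AddCommGroup N] [Module C N] [Module.FinitePresentation C N]
    [AddCommGroup M] [Module C M] [Module A M] [IsScalarTower A C M] [Module.FinitePresentation C M]
    (u : N →ₗ[C] M) :
    ∃ (D C₁ : Type u) (_ : CommRing D) (_ : CommRing C₁) (_ : Algebra D A) (_ : Algebra D C₁) (_ : Algebra D C)
      (_ : Algebra C₁ C) (_ : IsScalarTower D A C) (_ : IsScalarTower D C₁ C) (_ : Algebra.IsPushout D A C₁ C)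
      (N₁ M₁ : Type u) (_ : AddCommGroup N₁) (_ : Module C₁ N₁) (_ : Module D N₁) (_ : IsScalarTower D C₁ N₁)
      (_ : AddCommGroup M₁) (_ : Module C₁ M₁) (_ : Module D M₁) (_ : IsScalarTower D C₁ M₁)
      (u₁ : N₁ →ₗ[C₁] M₁) (eN : C ⊗[C₁] N₁ ≃ₗ[C] N) (eM : C ⊗[C₁] M₁ ≃ₗ[C] M),
      IsNoetherianRing D ∧ Algebra.FiniteType D C₁ ∧ Module.Finite C₁ N₁ ∧ Module.Finite C₁ M₁ ∧
      (∀ z, eM (u₁.baseChange C z) = u (eN z)) ∧
      (Module.Flat A M → Module.Flat D M₁) ∧
      (Module.Flat A (M ⧸ LinearMap.range u) → Module.Flat D (M₁ ⧸ LinearMap.range u₁)) := by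
  classical
  obtain ⟨A₀, C₀, _, _, _, hγ, hpo₀, N₀, M₀, _, _, _, _, _, _, _, _, u₀, eN₀, eM₀, hN, _, _, _, hcomm⟩ :=
    exists_pres_model (A := A) u
  let Q₀ := M₀ ⧸ LinearMap.range u₀
  let eQ : C ⊗[C₀] Q₀ ≃ₗ[C] M ⧸ LinearMap.range u :=
    (Function.Exact.linearEquivOfSurjective (f := u₀.baseChange C) (g := (LinearMap.range u₀).mkQ.baseChange C)
      (lTensor_exact C (LinearMap.exact_map_mkQ_range u₀) (Submodule.mkQ_surjective _))
      (LinearMap.lTensor_surjective C (Submodule.mkQ_surjective _))).symm ≪≫ₗ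
    Submodule.Quotient.equiv _ _ eM₀ (by
      ext y
      constructor
      · rintro ⟨_, ⟨z, rfl⟩, rfl⟩
        exact ⟨eN₀ z, (hcomm z).symm⟩
      · rintro ⟨z, rfl⟩
        refine ⟨_, ⟨eN₀.symm z, rfl⟩, ?_⟩
        show eM₀ (u₀.baseChange C (eN₀.symm z)) = u z
        rw [hcomm, LinearEquiv.apply_symm_apply])
  have hflatQ : Module.Flat A (M ⧸ LinearMap.range u) → ∃ E : Subalgebra A₀ A, E.FG ∧
      ∀ E' : Subalgebra A₀ A, E ≤ E' → Module.Flat E' (E' ⊗[A₀] Q₀) := fun h => by
    have : Module.Flat A (A ⊗[A₀] Q₀) := Module.Flat.of_linearEquiv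
      ((Algebra.IsPushout.cancelBaseChange A₀ A C₀ C Q₀).symm ≪≫ₗ eQ.restrictScalars A)
    exact FlatStage64.exists_fg_flat (R := A₀) (B := C₀) (M := Q₀) (A := A) this
  have hflatM : Module.Flat A M → ∃ E : Subalgebra A₀ A, E.FG ∧
      ∀ E' : Subalgebra A₀ A, E ≤ E' → Module.Flat E' (E' ⊗[A₀] M₀) := fun h => by
    have : Module.Flat A (A ⊗[A₀] M₀) := Module.Flat.of_linearEquiv
      ((Algebra.IsPushout.cancelBaseChange A₀ A C₀ C M₀).symm ≪≫ₗ eM₀.restrictScalars A)
    exact FlatStage64.exists_fg_flat (R := A₀) (B := C₀) (M := M₀) (A := A) this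
  obtain ⟨EM, hEM, hEM'⟩ : ∃ E : Subalgebra A₀ A, E.FG ∧ (Module.Flat A M →
      ∀ E' : Subalgebra A₀ A, E ≤ E' → Module.Flat E' (E' ⊗[A₀] M₀)) := by
    by_cases h : Module.Flat A M
    · obtain ⟨E, h1, h2⟩ := hflatM h
      exact ⟨E, h1, fun _ => h2⟩
    · exact ⟨⊥, Subalgebra.fg_bot, fun h' => absurd h' h⟩
  obtain ⟨EQ, hEQ, hEQ'⟩ : ∃ E : Subalgebra A₀ A, E.FG ∧ (Module.Flat A (M ⧸ LinearMap.range u) →
      ∀ E' : Subalgebra A₀ A, E ≤ E' → Module.Flat E' (E' ⊗[A₀] Q₀)) := by
    by_cases h : Module.Flat A (M ⧸ LinearMap.range u)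
    · obtain ⟨E, h1, h2⟩ := hflatQ h
      exact ⟨E, h1, fun _ => h2⟩
    · exact ⟨⊥, Subalgebra.fg_bot, fun h' => absurd h' h⟩
  let D := EM ⊔ EQ
  have : Algebra.FiniteType A₀ D := (Subalgebra.fg_iff_finiteType D).mp (hEM.sup hEQ)
  have : IsNoetherianRing D := Algebra.FiniteType.isNoetherianRing A₀ D
  obtain ⟨C₁, _, _, _, _, _, _, hpo₁, hft⟩ : ∃ (C₁ : Type u) (_ : CommRing C₁) (_ : Algebra D C₁) (_ : Algebra C₀ C₁)
      (_ : Algebra A₀ C₁) (_ : IsScalarTower A₀ D C₁) (_ : IsScalarTower A₀ C₀ C₁),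
      Algebra.IsPushout A₀ D C₀ C₁ ∧ Algebra.FiniteType D C₁ :=
    ⟨D ⊗[A₀] C₀, inferInstance, inferInstance, Algebra.TensorProduct.rightAlgebra, inferInstance, inferInstance,
      Algebra.TensorProduct.right_isScalarTower, TensorProduct.isPushout, inferInstance⟩
  let ρ : C₁ →ₐ[A₀] C := Algebra.pushoutDesc C₁ (IsScalarTower.toAlgHom A₀ D C)
    (IsScalarTower.toAlgHom A₀ C₀ C) fun _ _ => mul_comm _ _
  letI : Algebra C₁ C := ρ.toRingHom.toAlgebra
  have : IsScalarTower D A C := inferInstance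
  have : IsScalarTower D C₁ C := IsScalarTower.of_algebraMap_eq (R := D) (S := C₁) (A := C) fun d =>
    (Algebra.pushoutDesc_left C₁ (IsScalarTower.toAlgHom A₀ D C) (IsScalarTower.toAlgHom A₀ C₀ C) _ d).symm
  have : IsScalarTower C₀ C₁ C := IsScalarTower.of_algebraMap_eq (R := C₀) (S := C₁) (A := C) fun c =>
    (Algebra.pushoutDesc_right C₁ (IsScalarTower.toAlgHom A₀ D C) (IsScalarTower.toAlgHom A₀ C₀ C) _ c).symm
  have : IsScalarTower A₀ C₁ C := IsScalarTower.of_algebraMap_eq (R := A₀) (S := C₁) (A := C) fun a =>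
    (ρ.commutes a).symm
  have hpo : Algebra.IsPushout D A C₁ C :=
    (Algebra.IsPushout.comp_iff A₀ D C₀ (S' := C₁) (T := A) (T' := C)).mp hpo₀
  let u₁ : C₁ ⊗[C₀] N₀ →ₗ[C₁] C₁ ⊗[C₀] M₀ := u₀.baseChange C₁
  let eN : C ⊗[C₁] (C₁ ⊗[C₀] N₀) ≃ₗ[C] N := AlgebraTensorModule.cancelBaseChange C₀ C₁ C C N₀ ≪≫ₗ eN₀
  let eM : C ⊗[C₁] (C₁ ⊗[C₀] M₀) ≃ₗ[C] M := AlgebraTensorModule.cancelBaseChange C₀ C₁ C C M₀ ≪≫ₗ eM₀
  have hcomm₁ : ∀ z, eM (u₁.baseChange C z) = u (eN z) := by
    intro z
    simp only [eM, eN, LinearEquiv.trans_apply]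
    rw [← hcomm]
    congr 1
    induction z using TensorProduct.induction_on with
    | zero => simp
    | add a b ha hb => simp only [map_add, ha, hb]
    | tmul a b =>
      induction b using TensorProduct.induction_on with
      | zero => simp
      | add b c hb hc => simp only [tmul_add, map_add, hb, hc]
      | tmul b c => simp [u₁]
  refine ⟨D, C₁, inferInstance, inferInstance, inferInstance, inferInstance, inferInstance, inferInstance,
    inferInstance, inferInstance, hpo, C₁ ⊗[C₀] N₀, C₁ ⊗[C₀] M₀, inferInstance, inferInstance, inferInstance, inferInstance,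
    inferInstance, inferInstance, inferInstance, inferInstance, u₁, eN, eM, inferInstance, inferInstance,
    inferInstance, inferInstance, hcomm₁, fun h => ?_, fun h => ?_⟩
  · have := hEM' h D le_sup_left
    exact Module.Flat.of_linearEquiv (Algebra.IsPushout.cancelBaseChange A₀ D C₀ C₁ M₀)
  · have := hEQ' h D le_sup_right
    let eQ₁ : ((C₁ ⊗[C₀] M₀) ⧸ LinearMap.range u₁) ≃ₗ[C₁] C₁ ⊗[C₀] Q₀ :=
      Function.Exact.linearEquivOfSurjective (f := u₀.baseChange C₁) (g := (LinearMap.range u₀).mkQ.baseChange C₁)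
        (lTensor_exact C₁ (LinearMap.exact_map_mkQ_range u₀) (Submodule.mkQ_surjective _))
        (LinearMap.lTensor_surjective C₁ (Submodule.mkQ_surjective _))
    exact Module.Flat.of_linearEquiv
      (eQ₁.restrictScalars D ≪≫ₗ Algebra.IsPushout.cancelBaseChange A₀ D C₀ C₁ Q₀)

end Groth.Agent.Fib62
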