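import Groth.Agent.Fib62.InjFibreDescent
import Groth.Agent.Fib62.MapModel
import Groth.Agent.FlatCrit65.Injective
import Groth.Agent.FlatCrit65.Fibre
import Groth.Agent.FlatCrit65.FlatLocus.Module
import Mathlib.RingTheory.Localization.LocalizationLocalization

/-! A map into a flat module which is injective on the fibre is injective with flat cokernel, and the
locus of injectivity with flat cokernel is open. -/

set_option autoImplicit false
universe u

open TensorProduct

namespace Groth.Agent.Fib62

attribute [local instance] Algebra.TensorProduct.rightAlgebra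

theorem mem_map_smul_iff {R S W : Type u} [CommRing R] [CommRing S] [Algebra R S] [AddCommGroup W] [Module R W]
    [Module S W] [IsScalarTower R S W] (I : Ideal R) (w : W) :
    w ∈ I.map (algebraMap R S) • (⊤ : Submodule S W) ↔ w ∈ I • (⊤ : Submodule R W) := by
  refine ⟨FlatCrit65.mem_smul_restrictScalars I, fun h => ?_⟩
  refine Submodule.smul_induction_on h (fun r hr y _ => ?_) fun a b ha hb => add_mem ha hb
  rw [← algebraMap_smul S r y]
  exact Submodule.smul_mem_smul (Ideal.mem_map_of_mem _ hr) Submodule.mem_top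

theorem injective_lTensor_baseChange {C C' N M : Type u} [CommRing C] [CommRing C'] [Algebra C C'] [AddCommGroup N]
    [Module C N] [AddCommGroup M] [Module C M] (u : N →ₗ[C] M) (L : Type u) [CommRing L] [Algebra C L] [Algebra C' L]
    [IsScalarTower C C' L] (h : Function.Injective (u.lTensor L)) :
    Function.Injective ((u.baseChange C').lTensor L) := by
  let eN := AlgebraTensorModule.cancelBaseChange C C' C' L N
  let eM := AlgebraTensorModule.cancelBaseChange C C' C' L M
  have key : ∀ z, eM ((u.baseChange C').lTensor L z) = u.lTensor L (eN z) := by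
    intro z
    induction z using TensorProduct.induction_on with
    | zero => simp
    | add a b ha hb => simp only [map_add, ha, hb]
    | tmul a b =>
      induction b using TensorProduct.induction_on with
      | zero => simp
      | add b c hb hc => simp only [tmul_add, map_add, hb, hc]
      | tmul t n => simp [eN, eM]
  intro x y hxy
  apply eN.injective
  apply h
  rw [← key, ← key, hxy]

variable {A C : Type u} [CommRing A] [CommRing C] [Algebra A C] {N M : Type u} [AddCommGroup N]
  [Module C N] [AddCommGroup M] [Module C M]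

/-- Elements of the kernel vanish near `P`. -/
def InjAt (u : N →ₗ[C] M) (P : PrimeSpectrum C) : Prop := ∀ x, u x = 0 → ∃ s, s ∉ P.asIdeal ∧ s • x = 0

theorem injAt_iff (u : N →ₗ[C] M) (P : PrimeSpectrum C) :
    InjAt u P ↔ Function.Injective (u.baseChange (Localization.AtPrime P.asIdeal)) := by
  let Cp := Localization.AtPrime P.asIdeal
  constructor
  · intro h
    rw [injective_iff_map_eq_zero]
    intro z hz
    obtain ⟨⟨x, s⟩, hxs⟩ := IsLocalizedModule.surj P.asIdeal.primeCompl (TensorProduct.mk C Cp N 1) z
    have h1 : u.baseChange Cp ((1 : Cp) ⊗ₜ[C] x) = 0 := by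
      rw [show (1 : Cp) ⊗ₜ[C] x = (s : C) • z from hxs.symm, ← algebraMap_smul Cp (s : C) z, map_smul, hz, smul_zero]
    rw [LinearMap.baseChange_tmul] at h1
    obtain ⟨t, ht⟩ := (IsLocalizedModule.eq_zero_iff P.asIdeal.primeCompl (TensorProduct.mk C Cp M 1)).mp h1
    rw [Submonoid.smul_def] at ht
    obtain ⟨t', ht', ht'x⟩ := h ((t : C) • x) (by rw [map_smul, ht])
    have hx0 : (1 : Cp) ⊗ₜ[C] x = 0 :=
      (IsLocalizedModule.eq_zero_iff P.asIdeal.primeCompl (TensorProduct.mk C Cp N 1)).mpr
        ⟨(⟨t', ht'⟩ : P.asIdeal.primeCompl) * t, by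
          show (t' * (t : C)) • x = 0
          rw [mul_smul, ht'x]⟩
    rw [show (1 : Cp) ⊗ₜ[C] x = (s : C) • z from hxs.symm] at hx0
    exact IsLocalizedModule.smul_injective (TensorProduct.mk C Cp N 1) s (by
      show (s : C) • z = (s : C) • (0 : Cp ⊗[C] N)
      rw [hx0, smul_zero])
  · intro h x hx
    have h0 : (1 : Cp) ⊗ₜ[C] x = 0 := h (by rw [LinearMap.baseChange_tmul, hx, tmul_zero, map_zero])
    obtain ⟨t, ht⟩ := (IsLocalizedModule.eq_zero_iff P.asIdeal.primeCompl (TensorProduct.mk C Cp N 1)).mp h0
    exact ⟨t, t.2, ht⟩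

/-- The cokernel of a base change. -/
noncomputable def cokerBaseChange (u : N →ₗ[C] M) (R : Type u) [CommRing R] [Algebra C R] :
    ((R ⊗[C] M) ⧸ LinearMap.range (u.baseChange R)) ≃ₗ[R] R ⊗[C] (M ⧸ LinearMap.range u) :=
  Function.Exact.linearEquivOfSurjective (f := u.baseChange R) (g := (LinearMap.range u).mkQ.baseChange R)
    (lTensor_exact R (LinearMap.exact_map_mkQ_range u) (Submodule.mkQ_surjective _))
    (LinearMap.lTensor_surjective R (Submodule.mkQ_surjective _))

variable [Module A M] [IsScalarTower A C M]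

/-- Injective with flat cokernel implies injective on the fibre. -/
theorem injFib_of_injAt [Module A N] [IsScalarTower A C N] (u : N →ₗ[C] M) (P : PrimeSpectrum C) (hinj : InjAt u P)
    (hflat : Module.Flat A (Localization.AtPrime P.asIdeal ⊗[C] (M ⧸ LinearMap.range u))) : InjFib A u P := by
  rw [injFib_iff_mem]
  let p := P.asIdeal.under A
  let Cp := Localization.AtPrime P.asIdeal
  let v := u.baseChange Cp
  have hv : Function.Injective v := (injAt_iff u P).mp hinj
  haveI := hflat
  have hsurj : Function.Surjective (((LinearMap.range u).mkQ.baseChange Cp).restrictScalars A) :=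
    LinearMap.lTensor_surjective Cp (Submodule.mkQ_surjective _)
  have hex : Function.Exact (v.restrictScalars A) (((LinearMap.range u).mkQ.baseChange Cp).restrictScalars A) :=
    lTensor_exact Cp (LinearMap.exact_map_mkQ_range u) (Submodule.mkQ_surjective _)
  have h := FlatMor68.Pinch.lTensor_injective_of_flat_quotient (v.restrictScalars A) _ hv hsurj hex (L := A ⧸ p)
  intro x hx
  rw [mem_map_smul_iff] at hx
  rw [mem_map_smul_iff, ← FlatCrit65.one_tmul_eq_zero_iff]
  apply h
  rw [map_zero, LinearMap.lTensor_tmul]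
  exact (FlatCrit65.one_tmul_eq_zero_iff p _).mpr hx

/-- The Noetherian criterion. -/
theorem injective_and_flat_coker_noetherian [IsNoetherianRing C] [Module A N] [IsScalarTower A C N] [Module.Finite C N]
    (u : N →ₗ[C] M) (P : PrimeSpectrum C)
    [Module.Flat A (Localization.AtPrime P.asIdeal ⊗[C] M)] (h : InjFib A u P) :
    Function.Injective (u.baseChange (Localization.AtPrime P.asIdeal)) ∧
      Module.Flat A (Localization.AtPrime P.asIdeal ⊗[C] (M ⧸ LinearMap.range u)) := by
  let p := P.asIdeal.under A
  let Ap := Localization.AtPrime p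
  let Cp := Localization.AtPrime P.asIdeal
  letI : Algebra Ap Cp := Localization.AtPrime.algebraOfLiesOver p P.asIdeal
  have : IsLocalHom (algebraMap Ap Cp) :=
    Localization.isLocalHom_localRingHom p P.asIdeal (algebraMap A C) Ideal.LiesOver.over
  have : Module.Flat Ap (Cp ⊗[C] M) := (Module.flat_iff_of_isLocalization Ap p.primeCompl _).mpr inferInstance
  rw [injFib_iff_mem] at h
  let v := u.baseChange Cp
  have hm : (IsLocalRing.maximalIdeal Ap).map (algebraMap Ap Cp) = p.map (algebraMap A Cp) := by
    rw [← Localization.AtPrime.map_eq_maximalIdeal, Ideal.map_map, ← IsScalarTower.algebraMap_eq]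
  have hinj : Function.Injective ((v.restrictScalars Ap).lTensor (Ap ⧸ IsLocalRing.maximalIdeal Ap)) := by
    refine FlatCrit65.lTensor_quot_injective _ _ fun n hn => ?_
    have hn' : v n ∈ p.map (algebraMap A Cp) • (⊤ : Submodule Cp (Cp ⊗[C] M)) := by
      rw [← hm, mem_map_smul_iff]
      exact hn
    have := h n hn'
    rw [← hm, mem_map_smul_iff] at this
    exact this
  obtain ⟨h1, h2⟩ := FlatCrit65.injective_and_flat_quotient (S := Cp) (IsLocalRing.maximalIdeal Ap)
    ((IsLocalRing.le_maximalIdeal (by
      rw [hm]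
      exact ne_top_of_le_ne_top (IsLocalRing.maximalIdeal.isMaximal Cp).ne_top (Ideal.map_le_iff_le_comap.mpr fun a ha => by
        show algebraMap A Cp a ∈ IsLocalRing.maximalIdeal Cp
        rw [IsScalarTower.algebraMap_apply A C Cp]
        exact (IsLocalization.AtPrime.to_map_mem_maximal_iff Cp P.asIdeal _).mpr ha))).trans
      (IsLocalRing.maximalIdeal_le_jacobson ⊥)) (v.restrictScalars Ap) hinj
  refine ⟨h1, ?_⟩
  rw [LinearMap.range_restrictScalars] at h2
  have h3 : Module.Flat Ap ((Cp ⊗[C] M) ⧸ LinearMap.range v) :=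
    Module.Flat.of_linearEquiv ((Submodule.Quotient.restrictScalarsEquiv Ap (LinearMap.range v)).symm)
  have h4 : Module.Flat A ((Cp ⊗[C] M) ⧸ LinearMap.range v) :=
    (Module.flat_iff_of_isLocalization Ap p.primeCompl _).mp h3
  exact Module.Flat.of_linearEquiv ((cokerBaseChange u Cp).symm.restrictScalars A)

/-- Injectivity on the fibre passes to a localization. -/
theorem injFib_of_isLocalization {C' : Type u} [CommRing C'] [Algebra C C'] [Algebra A C'] [IsScalarTower A C C']
    (T : Submonoid C) [IsLocalization T C'] (u : N →ₗ[C] M) (P' : PrimeSpectrum C')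
    (h : InjFib A u (PrimeSpectrum.comap (algebraMap C C') P')) : InjFib A (u.baseChange C') P' := by
  let P := PrimeSpectrum.comap (algebraMap C C') P'
  let Cp := Localization.AtPrime P.asIdeal
  let R := Localization.AtPrime P'.asIdeal
  let L := FibreLocal A P
  let L' := FibreLocal A P'
  obtain ⟨τ, hτ, hker⟩ := exists_surjective_fibreLocal (A := A) P
  obtain ⟨τ', hτ', hker'⟩ := exists_surjective_fibreLocal (A := A) P'
  letI : Algebra C L' := ((algebraMap C' L').comp (algebraMap C C')).toAlgebra
  have : IsScalarTower C C' L' := IsScalarTower.of_algebraMap_eq (R := C) (S := C') (A := L') fun _ => rfl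
  have : IsLocalization P.asIdeal.primeCompl R :=
    IsLocalization.isLocalization_isLocalization_atPrime_isLocalization T R P'.asIdeal
  let e : Cp ≃ₐ[C] R := IsLocalization.algEquiv P.asIdeal.primeCompl Cp R
  let σ : Cp →ₐ[C] L' := (τ'.restrictScalars C).comp e.toAlgHom
  have hσ : RingHom.ker σ = RingHom.ker τ := by
    rw [hker]
    ext z
    rw [RingHom.mem_ker]
    show τ' (e z) = 0 ↔ _
    rw [← RingHom.mem_ker (f := τ'), hker']
    have he : (P'.asIdeal.under A).map (algebraMap A R) = ((P.asIdeal.under A).map (algebraMap A Cp)).map e.toRingEquiv.toRingHom := by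
      rw [Ideal.map_map]
      congr 1
      · ext a
        show algebraMap A R a = e (algebraMap A Cp a)
        rw [IsScalarTower.algebraMap_apply A C Cp, e.commutes, IsScalarTower.algebraMap_apply A C' R,
          IsScalarTower.algebraMap_apply A C C', ← IsScalarTower.algebraMap_apply C C' R]
      · ext a
        show algebraMap A C' a ∈ P'.asIdeal ↔ algebraMap C C' (algebraMap A C a) ∈ P'.asIdeal
        rw [← IsScalarTower.algebraMap_apply A C C']
    rw [he, Ideal.mem_map_iff_of_surjective e.toRingEquiv.toRingHom e.surjective]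
    exact ⟨fun ⟨x, hx, hxe⟩ => e.injective hxe ▸ hx, fun hz => ⟨z, hz, rfl⟩⟩
  have hσs : Function.Surjective σ := hτ'.comp e.surjective
  let eL : L ≃ₗ[C] L' := ((Ideal.quotientKerAlgEquivOfSurjective hτ).symm.trans
    ((Ideal.quotientEquivAlgOfEq C hσ.symm).trans (Ideal.quotientKerAlgEquivOfSurjective hσs))).toLinearEquiv
  have h' : Function.Injective (u.lTensor L') := by
    have key : ∀ z, u.lTensor L' (eL.toLinearMap.rTensor N z) = eL.toLinearMap.rTensor M (u.lTensor L z) := fun z => by
      rw [← LinearMap.comp_apply, ← LinearMap.comp_apply, LinearMap.lTensor_comp_rTensor, LinearMap.rTensor_comp_lTensor]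
    intro x y hxy
    obtain ⟨x, rfl⟩ := LinearMap.rTensor_surjective N (g := eL.toLinearMap) eL.surjective x
    obtain ⟨y, rfl⟩ := LinearMap.rTensor_surjective N (g := eL.toLinearMap) eL.surjective y
    rw [key, key] at hxy
    rw [h ((eL.rTensor M).injective hxy)]
  exact injective_lTensor_baseChange u L' h'

theorem exists_flat_away [Algebra.FinitePresentation A C] [Module.FinitePresentation C M] (P : PrimeSpectrum C)
    (h : Module.Flat A (Localization.AtPrime P.asIdeal ⊗[C] M)) :
    ∃ f, f ∉ P.asIdeal ∧ Module.Flat A (Localization.Away f ⊗[C] M) := by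
  have hP : Module.Flat A (LocalizedModule P.asIdeal.primeCompl M) :=
    Module.Flat.of_linearEquiv ((LocalizedModule.equivTensorProduct P.asIdeal.primeCompl M).restrictScalars A)
  obtain ⟨_, ⟨f, rfl⟩, hPf, hsub⟩ := PrimeSpectrum.isTopologicalBasis_basic_opens.exists_subset_of_mem_open
    (show P ∈ {q : PrimeSpectrum C | Module.Flat A (LocalizedModule q.asIdeal.primeCompl M)} from hP)
    FlatCrit65.isOpen_flat_locus_module
  refine ⟨f, hPf, ?_⟩
  suffices Module.Flat A (LocalizedModule (Submonoid.powers f) M) from
    Module.Flat.of_linearEquiv ((LocalizedModule.equivTensorProduct (Submonoid.powers f) M).symm.restrictScalars A)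
  refine Module.Flat.iff_lTensor_injective'.mpr fun I => FlatCrit65.injective_lTensor_localized _ _ fun z hz => ?_
  let J : Ideal C := LinearMap.ker (LinearMap.toSpanSingleton C (M ⊗[A] I) z)
  have hf : f ∈ J.radical := by
    rw [Ideal.radical_eq_sInf]
    refine Submodule.mem_sInf.mpr ?_
    rintro Q ⟨hJQ, hQ⟩
    by_contra hfQ
    haveI := hQ
    have hmem := hsub (show (⟨Q, hQ⟩ : PrimeSpectrum C) ∈ (PrimeSpectrum.basicOpen f : Set (PrimeSpectrum C)) from hfQ)
    obtain ⟨s, hs, hsz⟩ := (FlatCrit65.flat_localized_iff_kernels (R := A) (S := C) (M := M) Q).mp hmem I z hz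
    exact hs (hJQ hsz)
  obtain ⟨n, hn⟩ := hf
  exact ⟨f ^ n, ⟨n, rfl⟩, hn⟩

end Groth.Agent.Fib62
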