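import Groth.Agent.Fib62.Link
import Mathlib.LinearAlgebra.TensorProduct.RightExactness

/-! Injectivity on the fibre at a point and its descent along base change. -/

set_option autoImplicit false
universe u

open TensorProduct

namespace Groth.Agent.Fib62

attribute [local instance] Algebra.TensorProduct.rightAlgebra

section
variable {C R T N M : Type u} [CommRing C] [CommRing R] [CommRing T] [Algebra C R] [Algebra C T]
  [AddCommGroup N] [Module C N] [AddCommGroup M] [Module C M]

theorem rTensor_eq_zero_iff (τ : R →ₐ[C] T) (hτ : Function.Surjective τ) (x : R ⊗[C] N) :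
    τ.toLinearMap.rTensor N x = 0 ↔ x ∈ RingHom.ker τ • (⊤ : Submodule R (R ⊗[C] N)) := by
  let J := RingHom.ker τ
  constructor
  · intro hx
    have hex : Function.Exact (J.restrictScalars C).subtype τ.toLinearMap := fun r => by
      exact ⟨fun h => ⟨⟨r, h⟩, rfl⟩, fun ⟨⟨_, h⟩, e⟩ => e ▸ h⟩
    obtain ⟨z, rfl⟩ := ((rTensor_exact N hex hτ) x).mp hx
    clear hx
    induction z using TensorProduct.induction_on with
    | zero => simp
    | add a b ha hb => rw [map_add]; exact add_mem ha hb
    | tmul j n =>
      rw [LinearMap.rTensor_tmul, Submodule.coe_subtype,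
        show (j : R) ⊗ₜ[C] n = (j : R) • ((1 : R) ⊗ₜ[C] n) by rw [TensorProduct.smul_tmul', smul_eq_mul, mul_one]]
      exact Submodule.smul_mem_smul j.2 Submodule.mem_top
  · intro hx
    refine Submodule.smul_induction_on hx (fun j hj y hy => ?_) fun a b ha hb => by rw [map_add, ha, hb, add_zero]
    clear hy
    induction y using TensorProduct.induction_on with
    | zero => simp
    | add a b ha hb => rw [smul_add, map_add, ha, hb, add_zero]
    | tmul r n =>
      rw [TensorProduct.smul_tmul', LinearMap.rTensor_tmul]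
      simp [RingHom.mem_ker.mp hj]

theorem injective_lTensor_iff_mem (τ : R →ₐ[C] T) (hτ : Function.Surjective τ) (u : N →ₗ[C] M) :
    Function.Injective (u.lTensor T) ↔ ∀ x : R ⊗[C] N,
      u.baseChange R x ∈ RingHom.ker τ • (⊤ : Submodule R (R ⊗[C] M)) →
        x ∈ RingHom.ker τ • (⊤ : Submodule R (R ⊗[C] N)) := by
  have key : ∀ x : R ⊗[C] N, u.lTensor T (τ.toLinearMap.rTensor N x) =
      τ.toLinearMap.rTensor M (u.baseChange R x) := by
    intro x
    induction x using TensorProduct.induction_on with
    | zero => simp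
    | add a b ha hb => simp only [map_add, ha, hb]
    | tmul r n => simp
  simp only [← rTensor_eq_zero_iff τ hτ, ← key]
  constructor
  · intro h x hx
    exact h (hx.trans (map_zero _).symm)
  · intro h
    rw [injective_iff_map_eq_zero]
    intro y hy
    obtain ⟨x, rfl⟩ := LinearMap.rTensor_surjective N (g := τ.toLinearMap) hτ y
    exact h x hy

end

section
variable {A C : Type u} [CommRing A] [CommRing C] [Algebra A C] {N M : Type u} [AddCommGroup N]
  [Module C N] [AddCommGroup M] [Module C M]

variable (A) in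
/-- The local ring of the fibre at a prime. -/
abbrev FibreLocal (P : PrimeSpectrum C) : Type u :=
  Localization.AtPrime (fibrePoint (A := A) P).asIdeal

theorem comap_fibrePoint (P : PrimeSpectrum C) :
    (fibrePoint (A := A) P).asIdeal.comap (algebraMap C ((P.asIdeal.under A).Fiber C)) = P.asIdeal :=
  congrArg (fun x => PrimeSpectrum.asIdeal x.1)
    ((PrimeSpectrum.preimageEquivFiber A C ⟨P.asIdeal.under A, inferInstance⟩).symm_apply_apply ⟨P, rfl⟩)

theorem exists_surjective_fibreLocal (P : PrimeSpectrum C) :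
    ∃ τ : Localization.AtPrime P.asIdeal →ₐ[C] FibreLocal A P, Function.Surjective τ ∧
      RingHom.ker τ = (P.asIdeal.under A).map (algebraMap A (Localization.AtPrime P.asIdeal)) := by
  let p := P.asIdeal.under A
  let κ := p.ResidueField
  let S := p.Fiber C
  let Q := fibrePoint (A := A) P
  let Cp := Localization.AtPrime P.asIdeal
  have hQ : Q.asIdeal.comap (algebraMap C S) = P.asIdeal := comap_fibrePoint P
  let T := Localization.AtPrime Q.asIdeal
  have hu : ∀ y : P.asIdeal.primeCompl, IsUnit (Algebra.ofId C T y) := fun y => by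
    show IsUnit (algebraMap C T y)
    rw [IsScalarTower.algebraMap_apply C S T]
    exact IsLocalization.map_units (M := Q.asIdeal.primeCompl) T ⟨algebraMap C S y, fun h => y.2 (hQ.le h)⟩
  let τ : Cp →ₐ[C] T := IsLocalization.liftAlgHom (M := P.asIdeal.primeCompl) (f := Algebra.ofId C T) hu
  have hτC : ∀ c, τ (algebraMap C Cp c) = algebraMap C T c := τ.commutes
  -- every element of the fibre comes from the local ring
  have hS : ∀ x : S, ∃ z : Cp, τ z = algebraMap S T x := by
    intro x
    obtain ⟨r, hr, s, hs⟩ := Ideal.Fiber.exists_smul_eq_one_tmul p x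
    have hrP : algebraMap A C r ∉ P.asIdeal := hr
    refine ⟨IsLocalization.mk' Cp s (⟨algebraMap A C r, hrP⟩ : P.asIdeal.primeCompl), ?_⟩
    refine (hu ⟨algebraMap A C r, hrP⟩).mul_left_cancel ?_
    show algebraMap C T (algebraMap A C r) * _ = algebraMap C T (algebraMap A C r) * _
    have hsp : algebraMap C Cp (algebraMap A C r) *
        IsLocalization.mk' Cp s (⟨algebraMap A C r, hrP⟩ : P.asIdeal.primeCompl) = algebraMap C Cp s :=
      IsLocalization.mk'_spec' Cp s (⟨algebraMap A C r, hrP⟩ : P.asIdeal.primeCompl)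
    conv_lhs => rw [← hτC, ← map_mul, hsp, hτC]
    rw [IsScalarTower.algebraMap_apply C S T, IsScalarTower.algebraMap_apply C S T, ← map_mul]
    congr 1
    show (1 : κ) ⊗ₜ[A] s = (1 : κ) ⊗ₜ[A] algebraMap A C r * x
    rw [← hs, Algebra.smul_def]
    congr 1
    rw [Algebra.TensorProduct.algebraMap_apply, IsScalarTower.algebraMap_apply A κ κ, Algebra.algebraMap_self_apply,
      Algebra.algebraMap_eq_smul_one, Algebra.algebraMap_eq_smul_one (R := A) (A := C), smul_tmul]
  have hsurj : Function.Surjective τ := by
    intro y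
    obtain ⟨x, s, rfl⟩ := IsLocalization.exists_mk'_eq Q.asIdeal.primeCompl y
    obtain ⟨z, hz⟩ := hS x
    obtain ⟨w, hw⟩ := hS s
    have hw' : IsUnit w := by
      by_contra hw'
      obtain ⟨c, d, rfl⟩ := IsLocalization.exists_mk'_eq P.asIdeal.primeCompl w
      have hc : c ∈ P.asIdeal := by
        by_contra hc
        exact hw' ((IsLocalization.AtPrime.isUnit_mk'_iff Cp P.asIdeal c d).mpr hc)
      have h1 : IsUnit (τ (IsLocalization.mk' Cp c d)) := hw ▸ IsLocalization.map_units T s
      have h2 : τ (algebraMap C Cp c) = τ (IsLocalization.mk' Cp c d) * τ (algebraMap C Cp d) := by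
        rw [← map_mul, IsLocalization.mk'_spec]
      rw [hτC, hτC, IsScalarTower.algebraMap_apply C S T] at h2
      have h3 : IsUnit (algebraMap S T (algebraMap C S c)) := h2 ▸ h1.mul (hu d)
      exact (IsLocalization.AtPrime.isUnit_to_map_iff T Q.asIdeal _).mp h3 (hQ.ge hc)
    refine ⟨z * ↑hw'.unit⁻¹, ?_⟩
    rw [IsLocalization.eq_mk'_iff_mul_eq, map_mul, hz, ← hw, mul_assoc, ← map_mul, IsUnit.val_inv_mul,
      map_one, mul_one]
  refine ⟨τ, hsurj, le_antisymm ?_ ?_⟩
  · -- a retraction onto the quotient
    let J := p.map (algebraMap A Cp)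
    let α : κ →ₐ[A] Cp ⧸ J := Ideal.ResidueField.liftₐ p (Algebra.ofId A _)
      (fun a ha => Ideal.Quotient.eq_zero_iff_mem.mpr (Ideal.mem_map_of_mem _ ha)) fun a ha => by
        show IsUnit (algebraMap A (Cp ⧸ J) a)
        rw [IsScalarTower.algebraMap_apply A C (Cp ⧸ J), IsScalarTower.algebraMap_apply C Cp (Cp ⧸ J)]
        exact (IsLocalization.map_units (M := P.asIdeal.primeCompl) Cp ⟨algebraMap A C a, ha⟩).map _
    let g₀ : S →ₐ[A] Cp ⧸ J := Algebra.TensorProduct.lift α
      ((Ideal.Quotient.mkₐ A J).comp (IsScalarTower.toAlgHom A C Cp)) fun _ _ => .all _ _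
    have hg₀ : ∀ c : C, g₀ (algebraMap C S c) = Ideal.Quotient.mk J (algebraMap C Cp c) := fun c => by
      show Algebra.TensorProduct.lift _ _ _ ((1 : κ) ⊗ₜ[A] c) = _
      rw [Algebra.TensorProduct.lift_tmul, map_one, one_mul]
      rfl
    have hgu : ∀ y : Q.asIdeal.primeCompl, IsUnit (g₀.toRingHom y) := by
      intro y
      obtain ⟨r, hr, s, hs⟩ := Ideal.Fiber.exists_smul_eq_one_tmul p (y : S)
      rw [Algebra.smul_def] at hs
      have hrQ : algebraMap A S r ∉ Q.asIdeal := fun h => hr (by
        show algebraMap A C r ∈ P.asIdeal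
        rw [← hQ, Ideal.mem_comap, ← IsScalarTower.algebraMap_apply]
        exact h)
      have hsP : s ∉ P.asIdeal := fun h => by
        have h' : (1 : κ) ⊗ₜ[A] s ∈ Q.asIdeal := by rw [← hQ] at h; exact h
        rw [← hs] at h'
        exact (Q.2.mem_or_mem h').elim hrQ y.2
      have h1 : IsUnit (g₀ (algebraMap A S r * y)) := by
        rw [hs]
        show IsUnit (g₀ (algebraMap C S s))
        rw [hg₀]
        exact (IsLocalization.map_units (M := P.asIdeal.primeCompl) Cp ⟨s, hsP⟩).map _
      rw [map_mul] at h1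
      exact isUnit_of_mul_isUnit_right h1
    let g : T →+* Cp ⧸ J := IsLocalization.lift hgu
    have hg : g.comp τ.toRingHom = Ideal.Quotient.mk J := by
      refine IsLocalization.ringHom_ext P.asIdeal.primeCompl (RingHom.ext fun c => ?_)
      show g (τ (algebraMap C Cp c)) = _
      rw [hτC, IsScalarTower.algebraMap_apply C S T, IsLocalization.lift_eq]
      exact hg₀ c
    intro z hz
    have := congrArg (fun φ : Cp →+* Cp ⧸ J => φ z) hg
    simp only [RingHom.comp_apply] at this
    rw [show τ.toRingHom z = 0 from hz, map_zero] at this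
    exact Ideal.Quotient.eq_zero_iff_mem.mp this.symm
  · refine Ideal.map_le_iff_le_comap.mpr fun a ha => ?_
    show τ (algebraMap A Cp a) = 0
    rw [IsScalarTower.algebraMap_apply A C Cp, hτC, IsScalarTower.algebraMap_apply C S T]
    have h0 : algebraMap C S (algebraMap A C a) = 0 := by
      show (1 : κ) ⊗ₜ[A] algebraMap A C a = 0
      rw [Algebra.algebraMap_eq_smul_one, ← smul_tmul, ← Algebra.algebraMap_eq_smul_one,
        Ideal.algebraMap_residueField_eq_zero.mpr ha, zero_tmul]
    rw [h0, map_zero]

variable (A) in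
/-- The map is injective on the fibre at `P`. -/
def InjFib (u : N →ₗ[C] M) (P : PrimeSpectrum C) : Prop := Function.Injective (u.lTensor (FibreLocal A P))

theorem injFib_iff_mem (u : N →ₗ[C] M) (P : PrimeSpectrum C) :
    InjFib A u P ↔ ∀ x : Localization.AtPrime P.asIdeal ⊗[C] N,
      u.baseChange (Localization.AtPrime P.asIdeal) x ∈
          (P.asIdeal.under A).map (algebraMap A (Localization.AtPrime P.asIdeal)) •
            (⊤ : Submodule (Localization.AtPrime P.asIdeal) (Localization.AtPrime P.asIdeal ⊗[C] M)) →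
        x ∈ (P.asIdeal.under A).map (algebraMap A (Localization.AtPrime P.asIdeal)) •
            (⊤ : Submodule (Localization.AtPrime P.asIdeal) (Localization.AtPrime P.asIdeal ⊗[C] N)) := by
  obtain ⟨τ, hτ, hker⟩ := exists_surjective_fibreLocal (A := A) P
  have key := injective_lTensor_iff_mem (R := Localization.AtPrime P.asIdeal) (T := FibreLocal A P) τ hτ u
  simp only [hker] at key
  exact key

end

end Groth.Agent.Fib62
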