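import Groth.Agent.Fib62.InjFibre

/-! Injectivity on fibres descends along base change. -/

set_option autoImplicit false
universe u

open TensorProduct

namespace Groth.Agent.Fib62

attribute [local instance] Algebra.TensorProduct.rightAlgebra

/-- Injectivity descends along a faithfully flat extension. -/
theorem injective_lTensor_of_faithfullyFlat {C T T' N M : Type u} [CommRing C] [CommRing T] [CommRing T']
    [Algebra C T] [Algebra C T'] [Algebra T T'] [IsScalarTower C T T'] [Module.FaithfullyFlat T T']
    [AddCommGroup N] [Module C N] [AddCommGroup M] [Module C M] (u : N →ₗ[C] M)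
    (h : Function.Injective (u.lTensor T')) : Function.Injective (u.lTensor T) := by
  show Function.Injective (u.baseChange T)
  refine (Module.FaithfullyFlat.lTensor_injective_iff_injective T T' (u.baseChange T)).mp ?_
  let eN := AlgebraTensorModule.cancelBaseChange C T T' T' N
  let eM := AlgebraTensorModule.cancelBaseChange C T T' T' M
  have key : ∀ z, eM ((u.baseChange T).lTensor T' z) = u.lTensor T' (eN z) := by
    intro z
    induction z using TensorProduct.induction_on with
    | zero => simp
    | add a b ha hb => simp only [map_add, ha, hb]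
    | tmul a b =>
      induction b using TensorProduct.induction_on with
      | zero => simp
      | add b c hb hc => simp only [tmul_add, map_add, hb, hc]
      | tmul t n => simp [eN, eM]
  intro x y hxy
  apply eN.injective
  apply h
  rw [← key, ← key, hxy]

variable {A C A' C' N M : Type u} [CommRing A] [CommRing C] [Algebra A C] [CommRing A'] [CommRing C']
  [Algebra A A'] [Algebra A' C'] [Algebra C C'] [Algebra A C'] [IsScalarTower A A' C'] [IsScalarTower A C C']
  [Algebra.IsPushout A A' C C'] [AddCommGroup N] [Module C N] [AddCommGroup M] [Module C M]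

theorem injFib_of_baseChange_aux (u : N →ₗ[C] M) (P' : PrimeSpectrum C') (P : PrimeSpectrum C)
    (hP : PrimeSpectrum.comap (algebraMap C C') P' = P)
    (k : Type u) [Field k] [Algebra A' k] (S : Type u) [CommRing S] [Algebra k S] [Algebra C' S] [Algebra A' S]
    [IsScalarTower A' k S] [IsScalarTower A' C' S] [Algebra.IsPushout A' k C' S]
    (Q : Ideal S) [Q.IsPrime] (hQ : Q.comap (algebraMap C' S) = P'.asIdeal)
    (h : Function.Injective ((u.baseChange C').lTensor (Localization.AtPrime Q))) : InjFib A u P := by
  subst hP
  let P := PrimeSpectrum.comap (algebraMap C C') P'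
  let p := P.asIdeal.under A
  let κ := p.ResidueField
  let S₀ := p.Fiber C
  letI : Algebra A k := ((algebraMap A' k).comp (algebraMap A A')).toAlgebra
  letI : Algebra C S := ((algebraMap C' S).comp (algebraMap C C')).toAlgebra
  letI : Algebra A S := ((algebraMap A' S).comp (algebraMap A A')).toAlgebra
  have : IsScalarTower A A' k := .of_algebraMap_eq fun _ => rfl
  have : IsScalarTower A A' S := .of_algebraMap_eq fun _ => rfl
  have : IsScalarTower C C' S := .of_algebraMap_eq fun _ => rfl
  have : IsScalarTower A k S := IsScalarTower.to₁₃₄ A A' k S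
  have : IsScalarTower A C' S := IsScalarTower.to₁₃₄ A A' C' S
  have : IsScalarTower A C S := .of_algebraMap_eq fun a => by
    rw [IsScalarTower.algebraMap_apply A C' S, IsScalarTower.algebraMap_apply A C C',
      ← IsScalarTower.algebraMap_apply C C' S]
  have hQC : Q.comap (algebraMap C S) = P.asIdeal := by
    rw [IsScalarTower.algebraMap_eq C C' S, ← Ideal.comap_comap, hQ]
    rfl
  have hS : Algebra.IsPushout A k C S :=
    (Algebra.IsPushout.comp_iff A A' C (S' := C') (T' := S)).mpr inferInstance
  have hp : ∀ a : A, a ∈ p ↔ algebraMap A k a = 0 := by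
    intro a
    show algebraMap A C a ∈ P.asIdeal ↔ _
    rw [← hQC, Ideal.mem_comap, ← IsScalarTower.algebraMap_apply, IsScalarTower.algebraMap_apply A k S]
    constructor
    · intro h
      by_contra h0
      exact (inferInstance : Q.IsPrime).ne_top (Ideal.eq_top_of_isUnit_mem Q h ((Ne.isUnit h0).map _))
    · intro h
      rw [h, map_zero]
      exact zero_mem Q
  let ι : κ →ₐ[A] k := Ideal.ResidueField.liftₐ p (Algebra.ofId A k)
    (fun a ha => (hp a).mp ha) (fun a ha => Ne.isUnit fun h => ha ((hp a).mpr h))
  letI : Algebra κ k := ι.toRingHom.toAlgebra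
  have : IsScalarTower A κ k := .of_algebraMap_eq fun a => (ι.commutes a).symm
  let ψ : S₀ →ₐ[A] S := Algebra.TensorProduct.lift ((IsScalarTower.toAlgHom A k S).comp ι)
    (IsScalarTower.toAlgHom A C S) fun _ _ => .all _ _
  letI : Algebra S₀ S := ψ.toRingHom.toAlgebra
  letI : Algebra κ S := ((algebraMap k S).comp (algebraMap κ k)).toAlgebra
  have : IsScalarTower κ k S := .of_algebraMap_eq fun _ => rfl
  have hψC : ∀ c : C, ψ (1 ⊗ₜ[A] c) = algebraMap C S c := fun c => by
    show Algebra.TensorProduct.lift _ _ _ ((1 : κ) ⊗ₜ[A] c) = _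
    rw [Algebra.TensorProduct.lift_tmul, map_one, one_mul]
    rfl
  have : IsScalarTower C S₀ S := IsScalarTower.of_algebraMap_eq (R := C) (S := S₀) (A := S) fun c => (hψC c).symm
  have : IsScalarTower κ S₀ S := IsScalarTower.of_algebraMap_eq (R := κ) (S := S₀) (A := S) fun x => by
    show _ = Algebra.TensorProduct.lift _ _ _ (x ⊗ₜ[A] (1 : C))
    rw [Algebra.TensorProduct.lift_tmul, map_one, mul_one]
    rfl
  have : IsScalarTower A κ S := .of_algebraMap_eq fun a => by
    show _ = algebraMap k S (algebraMap κ k (algebraMap A κ a))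
    rw [← IsScalarTower.algebraMap_apply A κ k, ← IsScalarTower.algebraMap_apply]
  have : IsScalarTower A S₀ S := IsScalarTower.of_algebraMap_eq (R := A) (S := S₀) (A := S) fun a => (ψ.commutes a).symm
  have hpo : Algebra.IsPushout κ k S₀ S :=
    (Algebra.IsPushout.comp_iff A κ C (S' := S₀) (T' := S)).mp inferInstance
  have : Algebra.IsPushout κ S₀ k S := hpo.symm
  have : Module.Flat S₀ S := Module.Flat.of_linearEquiv
    (Algebra.IsPushout.out (R := κ) (S := S₀) (R' := k) (S' := S)).equiv.symm
  let Q₀ := fibrePoint (A := A) P
  have hunder : Q.comap (algebraMap S₀ S) = Q₀.asIdeal := by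
    have key := (PrimeSpectrum.preimageEquivFiber A C ⟨p, inferInstance⟩).symm_apply_eq
      (x := ⟨Q.comap (algebraMap S₀ S), inferInstance⟩) (y := ⟨P, rfl⟩)
    refine congrArg PrimeSpectrum.asIdeal (key.mp (Subtype.ext (PrimeSpectrum.ext ?_)))
    show (Q.comap (algebraMap S₀ S)).comap _ = P.asIdeal
    rw [Ideal.comap_comap]
    exact (congrArg (Ideal.comap · Q) (RingHom.ext hψC)).trans hQC
  have : Q.LiesOver Q₀.asIdeal := ⟨hunder.symm⟩
  let T := Localization.AtPrime Q₀.asIdeal
  let T' := Localization.AtPrime Q
  letI : Algebra T T' := Localization.AtPrime.algebraOfLiesOver Q₀.asIdeal Q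
  have : IsLocalHom (algebraMap T T') :=
    Localization.isLocalHom_localRingHom Q₀.asIdeal Q (algebraMap S₀ S) Ideal.LiesOver.over
  have : Module.Flat S₀ T' := Module.Flat.trans S₀ S T'
  have : IsScalarTower S₀ T T' := IsScalarTower.of_algebraMap_eq (R := S₀) (S := T) (A := T') fun x =>
    (IsScalarTower.algebraMap_apply S₀ S T' x).trans
      (Localization.localRingHom_to_map Q₀.asIdeal Q (algebraMap S₀ S) Ideal.LiesOver.over x).symm
  have : Module.Flat T T' := (Module.flat_iff_of_isLocalization T Q₀.asIdeal.primeCompl T').mpr inferInstance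
  have : Module.FaithfullyFlat T T' := Module.FaithfullyFlat.of_flat_of_isLocalHom
  have : IsScalarTower C T T' := .of_algebraMap_eq fun c => by
    rw [IsScalarTower.algebraMap_apply C S₀ T, ← IsScalarTower.algebraMap_apply S₀ T T',
      IsScalarTower.algebraMap_apply S₀ S T', ← IsScalarTower.algebraMap_apply C S₀ S,
      ← IsScalarTower.algebraMap_apply]
  refine injective_lTensor_of_faithfullyFlat (T := T) (T' := T') u ?_
  let eN := AlgebraTensorModule.cancelBaseChange C C' C' T' N
  let eM := AlgebraTensorModule.cancelBaseChange C C' C' T' M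
  have key : ∀ z, eM ((u.baseChange C').lTensor T' z) = u.lTensor T' (eN z) := by
    intro z
    induction z using TensorProduct.induction_on with
    | zero => simp
    | add a b ha hb => simp only [map_add, ha, hb]
    | tmul a b =>
      induction b using TensorProduct.induction_on with
      | zero => simp
      | add b c hb hc => simp only [tmul_add, map_add, hb, hc]
      | tmul t n => simp [eN, eM]
  intro x y hxy
  obtain ⟨x, rfl⟩ := eN.surjective x
  obtain ⟨y, rfl⟩ := eN.surjective y
  rw [← key, ← key] at hxy
  rw [h (eM.injective hxy)]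

/-- Injectivity on the fibre descends along base change. -/
theorem injFib_of_baseChange (u : N →ₗ[C] M) (P' : PrimeSpectrum C')
    (h : InjFib A' (u.baseChange C') P') : InjFib A u (PrimeSpectrum.comap (algebraMap C C') P') :=
  injFib_of_baseChange_aux (A := A) (A' := A') u P' _ rfl (P'.asIdeal.under A').ResidueField ((P'.asIdeal.under A').Fiber C')
    (fibrePoint (A := A') P').asIdeal (comap_fibrePoint P') h

end Groth.Agent.Fib62
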