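import Groth.Agent.Fib62.GoodAt
import Mathlib.RingTheory.Localization.BaseChange
import Mathlib.LinearAlgebra.TensorProduct.Quotient

/-! Flatness on the fibre at a point read on local rings. -/

set_option autoImplicit false
universe u

open TensorProduct

namespace Groth.Agent.Fib62

attribute [local instance] Algebra.TensorProduct.rightAlgebra

variable {A B C : Type u} [CommRing A] [CommRing B] [CommRing C] [Algebra A B] [Algebra B C] [Algebra A C]
  [IsScalarTower A B C] (M : Type u) [AddCommGroup M] [Module C M] [Module B M] [IsScalarTower B C M]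

theorem isLocalization_fibre_tensor (P : PrimeSpectrum C) :
    IsLocalization (fibrePoint (A := A) P).asIdeal.primeCompl
      ((P.asIdeal.under A).Fiber C ⊗[C] Localization.AtPrime P.asIdeal) := by
  let p := P.asIdeal.under A
  let Q := fibrePoint (A := A) P
  let S := p.Fiber C
  have hQ : Q.asIdeal.comap (algebraMap C S) = P.asIdeal :=
    congrArg (fun x => PrimeSpectrum.asIdeal x.1)
      ((PrimeSpectrum.preimageEquivFiber A C ⟨p, inferInstance⟩).symm_apply_apply ⟨P, rfl⟩)
  have hC : ∀ c, c ∉ P.asIdeal → IsUnit (algebraMap S (S ⊗[C] Localization.AtPrime P.asIdeal) (algebraMap C S c)) :=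
    fun c hc => IsLocalization.map_units (M := Algebra.algebraMapSubmonoid S P.asIdeal.primeCompl) (S ⊗[C] Localization.AtPrime P.asIdeal)
      ⟨algebraMap C S c, Algebra.mem_algebraMapSubmonoid_of_mem (⟨c, hc⟩ : P.asIdeal.primeCompl)⟩
  refine IsLocalization.of_le (Algebra.algebraMapSubmonoid S P.asIdeal.primeCompl) _ ?_ ?_
  · rintro _ ⟨c, hc, rfl⟩
    exact fun h => hc (hQ ▸ h)
  · intro x hx
    obtain ⟨r, hr, s, hs⟩ := Ideal.Fiber.exists_smul_eq_one_tmul p x
    rw [Algebra.smul_def] at hs
    have hrQ : algebraMap A S r ∉ Q.asIdeal := fun h => hr (by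
      show algebraMap A C r ∈ P.asIdeal
      rw [← hQ, Ideal.mem_comap, ← IsScalarTower.algebraMap_apply]
      exact h)
    have hsQ : (1 : p.ResidueField) ⊗ₜ[A] s ∉ Q.asIdeal := by
      rw [← hs]
      exact fun h => (Q.2.mem_or_mem h).elim hrQ hx
    have hsP : s ∉ P.asIdeal := fun h => hsQ (by rw [← hQ] at h; exact h)
    have h1 := hC s hsP
    rw [show algebraMap C S s = (1 : p.ResidueField) ⊗ₜ[A] s from rfl, ← hs, map_mul] at h1
    exact @isUnit_of_mul_isUnit_right _ (Algebra.TensorProduct.instCommRing (R := C) (A := S) (B := Localization.AtPrime P.asIdeal)).toCommMonoid.toMonoid inferInstance _ _ h1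

/-- `GoodAt` in terms of the fibre of `B` and the localized module. -/
theorem goodAt_iff_tensor (P : PrimeSpectrum C) :
    GoodAt A B M P ↔ Module.Flat ((P.asIdeal.under A).Fiber B)
      ((P.asIdeal.under A).Fiber B ⊗[B] (Localization.AtPrime P.asIdeal ⊗[C] M)) := by
  let p := P.asIdeal.under A
  let κ := p.ResidueField
  let D := p.Fiber B
  let S := p.Fiber C
  let N := Localization.AtPrime P.asIdeal ⊗[C] M
  let Q := fibrePoint (A := A) P
  letI : Algebra D S := fibreAlgebra p
  have h0 : IsScalarTower κ D S :=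
    IsScalarTower.of_algebraMap_eq (R := κ) (S := D) (A := S) fun x => by
      show (x ⊗ₜ[A] (1 : C)) = Algebra.TensorProduct.map _ _ (x ⊗ₜ[A] (1 : B))
      simp
      rfl
  letI : Algebra B S := ((algebraMap C S).comp (algebraMap B C)).toAlgebra
  have : IsScalarTower B C S := IsScalarTower.of_algebraMap_eq (R := B) (S := C) (A := S) fun _ => rfl
  have : IsScalarTower B D S := IsScalarTower.of_algebraMap_eq (R := B) (S := D) (A := S) fun b => by
    show (1 : κ) ⊗ₜ[A] algebraMap B C b = Algebra.TensorProduct.map _ _ ((1 : κ) ⊗ₜ[A] b)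
    simp
  have : IsScalarTower A D S := IsScalarTower.to₁₃₄ A κ D S
  have hp : Algebra.IsPushout B D C S := Algebra.IsPushout.symm
    ((Algebra.IsPushout.comp_iff A B κ (S' := D) (T := C) (T' := S)).mp inferInstance)
  let R := S ⊗[C] Localization.AtPrime P.asIdeal
  have : IsLocalization Q.asIdeal.primeCompl R := isLocalization_fibre_tensor P
  let e0 : Localization.AtPrime Q.asIdeal ≃ₐ[S] R :=
    IsLocalization.algEquiv Q.asIdeal.primeCompl (Localization.AtPrime Q.asIdeal) R
  let e : LocalizedModule Q.asIdeal.primeCompl (S ⊗[C] M) ≃ₗ[S] S ⊗[C] N :=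
    (LocalizedModule.equivTensorProduct Q.asIdeal.primeCompl (S ⊗[C] M)).restrictScalars S ≪≫ₗ
      AlgebraTensorModule.congr e0.toLinearEquiv (LinearEquiv.refl S (S ⊗[C] M)) ≪≫ₗ
      (AlgebraTensorModule.cancelBaseChange C S S R M) ≪≫ₗ
      AlgebraTensorModule.assoc C C S S (Localization.AtPrime P.asIdeal) M
  show Module.Flat D (LocalizedModule Q.asIdeal.primeCompl (S ⊗[C] M)) ↔ Module.Flat D (D ⊗[B] N)
  exact Module.Flat.equiv_iff (e.restrictScalars D ≪≫ₗ Algebra.IsPushout.cancelBaseChange B D C S N)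

/-- `GoodAt` in terms of local rings. -/
theorem goodAt_iff_quotient (P : PrimeSpectrum C) (Bq : Type u) [CommRing Bq] [Algebra B Bq]
    [Algebra A Bq] [IsScalarTower A B Bq] [IsLocalization.AtPrime Bq (P.asIdeal.under B)]
    (N : Type u) [AddCommGroup N] [Module B N] [Module Bq N] [IsScalarTower B Bq N]
    (e : Localization.AtPrime P.asIdeal ⊗[C] M ≃ₗ[B] N) :
    GoodAt A B M P ↔
      Module.Flat (Bq ⧸ (P.asIdeal.under A).map (algebraMap A Bq))
        ((Bq ⧸ (P.asIdeal.under A).map (algebraMap A Bq)) ⊗[Bq] N) := by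
  rw [goodAt_iff_tensor]
  let p := P.asIdeal.under A
  let κ := p.ResidueField
  let D := p.Fiber B
  let E := Bq ⧸ p.map (algebraMap A Bq)
  have e1 : D ⊗[B] (Localization.AtPrime P.asIdeal ⊗[C] M) ≃ₗ[D] D ⊗[B] N :=
    AlgebraTensorModule.congr (LinearEquiv.refl D D) e
  show Module.Flat D _ ↔ Module.Flat E _
  rw [Module.Flat.equiv_iff e1]
  constructor
  · intro h
    have hle : p ≤ RingHom.ker (algebraMap A E) := fun a ha =>
      Ideal.Quotient.eq_zero_iff_mem.mpr (Ideal.mem_map_of_mem _ ha)
    let α : κ →ₐ[A] E := Ideal.ResidueField.liftₐ p (Algebra.ofId A E) hle fun a ha => by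
      show IsUnit (algebraMap A E a)
      rw [IsScalarTower.algebraMap_apply A B E, IsScalarTower.algebraMap_apply B Bq E]
      refine (IsLocalization.map_units (M := (P.asIdeal.under B).primeCompl) Bq
        ⟨algebraMap A B a, fun hab => ha ?_⟩).map _
      show algebraMap A C a ∈ P.asIdeal
      rw [IsScalarTower.algebraMap_apply A B C]
      exact hab
    let φ : D →ₐ[A] E := Algebra.TensorProduct.lift α (IsScalarTower.toAlgHom A B E) fun _ _ => .all _ _
    letI : Algebra D E := φ.toRingHom.toAlgebra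
    have : IsScalarTower B D E := IsScalarTower.of_algebraMap_eq (R := B) (S := D) (A := E) fun b => by
      show _ = Algebra.TensorProduct.lift _ _ _ ((1 : κ) ⊗ₜ[A] b)
      rw [Algebra.TensorProduct.lift_tmul, map_one, one_mul]
      rfl
    have : Module.Flat E (E ⊗[B] N) :=
      Module.Flat.of_linearEquiv (AlgebraTensorModule.cancelBaseChange B D E E N).symm
    let eN : Bq ⊗[B] N ≃ₗ[Bq] N :=
      haveI := isLocalizedModule_id (P.asIdeal.under B).primeCompl N Bq
      (IsLocalizedModule.isBaseChange (P.asIdeal.under B).primeCompl Bq (LinearMap.id : N →ₗ[B] N)).equiv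
    exact Module.Flat.of_linearEquiv ((AlgebraTensorModule.congr (LinearEquiv.refl E E) eN).symm ≪≫ₗ
      AlgebraTensorModule.cancelBaseChange B Bq E E N)
  · intro h
    let R := D ⊗[B] Bq
    have hle : p.map (algebraMap A Bq) ≤ RingHom.ker (algebraMap Bq R) := by
      rw [Ideal.map_le_iff_le_comap]
      intro a ha
      show (1 : D) ⊗ₜ[B] algebraMap A Bq a = 0
      rw [IsScalarTower.algebraMap_apply A B Bq, Algebra.algebraMap_eq_smul_one (R := B) (A := Bq), ← smul_tmul,
        ← Algebra.algebraMap_eq_smul_one]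
      have h0 : algebraMap B D (algebraMap A B a) = 0 := by
        rw [← IsScalarTower.algebraMap_apply]
        show algebraMap A κ a ⊗ₜ[A] (1 : B) = 0
        rw [Ideal.algebraMap_residueField_eq_zero.mpr ha, zero_tmul]
      rw [h0, zero_tmul]
    letI : Algebra E R := RingHom.toAlgebra (R := E) (S := R) (Ideal.Quotient.lift (p.map (algebraMap A Bq)) (algebraMap Bq R) hle)
    have : IsScalarTower Bq E R := IsScalarTower.of_algebraMap_eq (R := Bq) (S := E) (A := R) fun _ => rfl
    have : Module.Flat R (R ⊗[Bq] N) :=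
      Module.Flat.of_linearEquiv (AlgebraTensorModule.cancelBaseChange Bq E R R N).symm
    have : Module.Flat B Bq := IsLocalization.flat Bq (P.asIdeal.under B).primeCompl
    have : Module.Flat D R := inferInstance
    have : Module.Flat D (R ⊗[Bq] N) := Module.Flat.trans D R _
    exact Module.Flat.of_linearEquiv (Algebra.IsPushout.cancelBaseChange B D Bq R N).symm

end Groth.Agent.Fib62
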